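import Groth.Agent.AmpleX.Sect
import Groth.Agent.AmpleX.Separated
import Groth.Agent.AmpleX.Basis
import Groth.Agent.QCoh.FlatBC
import Groth.Agent.EtFound.Descent

/-!
# Ampleness descends along faithfully flat affine base change
-/

set_option autoImplicit false
set_option linter.style.haveILetI false
set_option backward.isDefEq.respectTransparency false
set_option backward.isDefEq.respectTransparency.types false

universe u

open CategoryTheory CategoryTheory.Limits AlgebraicGeometry TopologicalSpace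
open scoped TensorProduct
open Groth.Agent.H23.PicMul

namespace Groth.Agent.Quiet5.AmpleFpqc

open Groth.Agent

/-- Elements killed by a flat base change of a map come from the kernel. -/
theorem exists_decomp {A B : Type u} [CommRing A] [CommRing B] [Algebra A B] [Module.Flat A B]
    {ι κ : Type u} [Finite ι] [Finite κ] {P P' : ι → Type u} {Q Q' : κ → Type u}
    [∀ i, AddCommGroup (P i)] [∀ i, Module A (P i)] [∀ i, AddCommGroup (P' i)] [∀ i, Module A (P' i)]
    [∀ i, Module B (P' i)] [∀ i, IsScalarTower A B (P' i)]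
    [∀ k, AddCommGroup (Q k)] [∀ k, Module A (Q k)] [∀ k, AddCommGroup (Q' k)] [∀ k, Module A (Q' k)]
    [∀ k, Module B (Q' k)] [∀ k, IsScalarTower A B (Q' k)]
    (l : ∀ i, P i →ₗ[A] P' i) (hl : ∀ i, IsBaseChange B (l i))
    (m : ∀ k, Q k →ₗ[A] Q' k) (hm : ∀ k, IsBaseChange B (m k))
    (Ψ : (∀ i, P i) →ₗ[A] (∀ k, Q k)) (Ψ' : (∀ i, P' i) →ₗ[B] (∀ k, Q' k))
    (comm : ∀ z k, Ψ' (fun i => l i (z i)) k = m k (Ψ z k))
    (z' : ∀ i, P' i) (hz : Ψ' z' = 0) :
    ∃ T : Finset (B × (∀ i, P i)), (∀ t ∈ T, Ψ t.2 = 0) ∧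
      ∀ i, z' i = ∑ t ∈ T, t.1 • l i (t.2 i) := by
  classical
  haveI := Fintype.ofFinite ι
  haveI := Fintype.ofFinite κ
  let F : B ⊗[A] (∀ i, P i) ≃ₗ[B] (∀ i, P' i) :=
    (TensorProduct.piRight A B B P).trans (LinearEquiv.piCongrRight fun i => (hl i).equiv)
  let G : B ⊗[A] (∀ k, Q k) ≃ₗ[B] (∀ k, Q' k) :=
    (TensorProduct.piRight A B B Q).trans (LinearEquiv.piCongrRight fun k => (hm k).equiv)
  have hF : ∀ b z i, F (b ⊗ₜ z) i = b • l i (z i) := fun b z i => by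
    simp [F, IsBaseChange.equiv_tmul]
  have hG : ∀ b w k, G (b ⊗ₜ w) k = b • m k (w k) := fun b w k => by
    simp [G, IsBaseChange.equiv_tmul]
  have hc : ∀ x, G (Ψ.lTensor B x) = Ψ' (F x) := by
    intro x
    induction x with
    | zero => simp
    | tmul b z =>
      have : F (b ⊗ₜ z) = b • fun i => l i (z i) := funext fun i => hF b z i
      ext k
      rw [this, map_smul, Pi.smul_apply, comm, LinearMap.lTensor_tmul, hG]
    | add x y hx hy => simp [hx, hy]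
  obtain ⟨x, rfl⟩ := F.surjective z'
  have h0 : Ψ.lTensor B x = 0 := G.injective (by rw [hc, hz, map_zero])
  obtain ⟨y, rfl⟩ := ((Module.Flat.lTensor_exact B Ψ.exact_subtype_ker_map) x).1 h0
  obtain ⟨T, rfl⟩ := TensorProduct.exists_finset y
  refine ⟨T.image fun t => (t.1, (t.2 : ∀ i, P i)), ?_, fun i => ?_⟩
  · simp only [Finset.mem_image]
    rintro _ ⟨t, -, rfl⟩
    exact LinearMap.mem_ker.1 t.2.2
  · rw [map_sum, map_sum, Finset.sum_apply, Finset.sum_image (fun t _ t' _ h => by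
      obtain ⟨h1, h2⟩ := Prod.mk.inj h
      exact Prod.ext h1 (Subtype.ext h2))]
    exact Finset.sum_congr rfl fun t _ => by rw [LinearMap.lTensor_tmul, hF]; rfl

variable {X X' : Scheme.{u}}

/-- The sum of local sections with coefficients does not generate where the coefficients vanish. -/
theorem not_mem_locus_sum {M : X.Modules} (hM : PicF.IsInvertible M) {U : X.Opens} {ι : Type*} (s : Finset ι)
    (g : ι → Γ(X, U)) (z : ι → Γ(M, U)) {x : X} (hxU : x ∈ U)
    (h : ∀ i ∈ s, x ∉ X.basicOpen (g i) ∨ x ∉ AmpleX.locus (z i)) :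
    x ∉ AmpleX.locus (∑ i ∈ s, g i • z i) := by
  classical
  obtain ⟨V₀, hxV₀, e₀, he₀⟩ := InvX.exists_frame hM x
  let V := V₀ ⊓ U
  have he := he₀.res (inf_le_left : V ≤ V₀)
  have hxV : x ∈ V := ⟨hxV₀, hxU⟩
  choose c hc using fun i => he.exists_coord le_rfl (AModX.res M (inf_le_right : V ≤ U) (z i))
  simp only [AModX.res_self] at hc
  have hsum : AModX.res M (inf_le_right : V ≤ U) (∑ i ∈ s, g i • z i) =
      (∑ i ∈ s, AModX.resR (inf_le_right : V ≤ U) (g i) * c i) •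
        AModX.res M (inf_le_left : V ≤ V₀) e₀ := by
    rw [map_sum, Finset.sum_smul]
    exact Finset.sum_congr rfl fun i _ => by rw [AModX.res_smul, hc i, mul_smul]
  intro hmem
  have h1 : x ∈ X.basicOpen (∑ i ∈ s, AModX.resR (inf_le_right : V ≤ U) (g i) * c i) :=
    (AmpleX.locus_inf _ _ he hsum).le ⟨hmem, hxV⟩
  rw [X.mem_basicOpen _ x hxV, map_sum] at h1
  obtain ⟨i, hi, hu⟩ : ∃ i ∈ s, IsUnit (X.presheaf.germ V x hxV (AModX.resR (inf_le_right : V ≤ U) (g i) * c i)) := by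
    by_contra! hno
    have : (∑ i ∈ s, X.presheaf.germ V x hxV (AModX.resR (inf_le_right : V ≤ U) (g i) * c i)) ∈
        IsLocalRing.maximalIdeal (X.presheaf.stalk x) := Ideal.sum_mem _ fun i hi => hno i hi
    exact this h1
  rw [map_mul, IsUnit.mul_iff] at hu
  rcases h i hi with h' | h'
  · apply h'
    have h2 : x ∈ X.basicOpen (AModX.resR (inf_le_right : V ≤ U) (g i)) := (X.mem_basicOpen _ x hxV).2 hu.1
    rw [show AModX.resR (inf_le_right : V ≤ U) (g i) = X.presheaf.map (homOfLE inf_le_right).op (g i) from rfl,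
      Scheme.basicOpen_res] at h2
    exact h2.2
  · apply h'
    exact ((AmpleX.locus_inf _ _ he (hc i)).ge ((X.mem_basicOpen _ x hxV).2 hu.2)).1

/-- A function whose non-vanishing locus is covered by basic opens has a power in their ideal. -/
theorem exists_pow_mem_span {V : X.Opens} (hV : IsAffineOpen V) (c : Γ(X, V)) {ι : Type*}
    (g : ι → Γ(X, V)) (h : ∀ y ∈ X.basicOpen c, ∃ i, y ∈ X.basicOpen (g i)) :
    ∃ k, c ^ k ∈ Ideal.span (Set.range g) := by
  rw [← Ideal.mem_radical_iff, Ideal.radical_eq_sInf, Submodule.mem_sInf]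
  rintro p ⟨hle, hp⟩
  by_contra hc
  let P : PrimeSpectrum Γ(X, V) := ⟨p, hp⟩
  have hP : P ∈ hV.fromSpec ⁻¹ᵁ X.basicOpen c := by
    rw [hV.fromSpec_preimage_basicOpen]
    exact hc
  obtain ⟨i, hi⟩ := h _ hP
  have hP' : P ∈ hV.fromSpec ⁻¹ᵁ X.basicOpen (g i) := hi
  rw [hV.fromSpec_preimage_basicOpen] at hP'
  exact hP' (hle (Ideal.subset_span ⟨i, rfl⟩))

theorem exists_finite_basicOpens {V W : X.Opens} (hV : IsAffineOpen V)
    (hVW : IsCompact ((V ⊓ W : X.Opens) : Set X)) :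
    ∃ (n : ℕ) (g : Fin n → Γ(X, V)), ∀ y, y ∈ V ⊓ W ↔ ∃ i, y ∈ X.basicOpen (g i) := by
  classical
  have h : ∀ y : ↥(V ⊓ W), ∃ f : Γ(X, V), X.basicOpen f ≤ W ∧ (y : X) ∈ X.basicOpen f := fun y =>
    hV.exists_basicOpen_le ⟨y.1, y.2.2⟩ y.2.1
  choose f hfle hfy using h
  obtain ⟨t, ht⟩ := hVW.elim_finite_subcover (fun y => (X.basicOpen (f y) : Set X))
    (fun y => (X.basicOpen (f y)).2) (fun y hy => Set.mem_iUnion.2 ⟨⟨y, hy⟩, hfy ⟨y, hy⟩⟩)
  refine ⟨t.card, fun i => f (t.equivFin.symm i).1, fun y => ⟨fun hy => ?_, ?_⟩⟩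
  · obtain ⟨z, hz, hyz⟩ := Set.mem_iUnion₂.1 (ht hy)
    exact ⟨t.equivFin ⟨z, hz⟩, by simpa only [Equiv.symm_apply_apply, SetLike.mem_coe] using hyz⟩
  · rintro ⟨i, hi⟩
    exact ⟨X.basicOpen_le _ hi, hfle _ hi⟩

variable {A B : Type u} [CommRing A] [CommRing B] [Algebra A B]
  {pA : X ⟶ Spec (CommRingCat.of A)} {pB : X' ⟶ Spec (CommRingCat.of B)} {φ : X' ⟶ X}

open QCoh in
theorem secLin_eq_pullElt (h : IsPullback φ pB pA (Spec.map (CommRingCat.ofHom (algebraMap A B))))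
    (N : X.Modules) (V : X.Opens) (x : Γ(N, V)) :
    secLin (Coh.toGlobal pA) (Coh.toGlobal pB) φ ((Scheme.Modules.pullbackPushforwardAdjunction φ).unit.app N)
      (toGlobal_comm pA pB φ h.w) V (φ ⁻¹ᵁ V) le_rfl x = InvX.pullElt φ x :=
  QCoh.map_id' _ _

/-- A pulled back section whose coordinates lie in given ideals is a combination of such sections. -/
theorem exists_sections_vanishing [Module.Flat A B] [X.IsSeparated]
    (h : IsPullback φ pB pA (Spec.map (CommRingCat.ofHom (algebraMap A B))))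
    {N : X.Modules} (hN : PicF.IsInvertible N) {J : Type u} [Finite J] (V : J → X.Opens)
    (hV : ∀ j, IsAffineOpen (V j)) (hcov : ∀ x : X, ∃ j, x ∈ V j)
    (n : J → ℕ) (g : ∀ j, Fin (n j) → Γ(X, V j))
    (β : Γ((Scheme.Modules.pullback φ).obj N, (⊤ : X'.Opens)))
    (z' : ∀ i : (Σ j, ULift.{u} (Fin (n j))), Γ((Scheme.Modules.pullback φ).obj N, φ ⁻¹ᵁ V i.1))
    (hβ : ∀ j, AModX.res _ (le_top : φ ⁻¹ᵁ V j ≤ ⊤) β =
      ∑ a, φ.app (V j) (g j a) • z' ⟨j, ⟨a⟩⟩) :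
    ∃ (τ : Type u) (_ : Fintype τ) (r : τ → Γ(X', ⊤)) (s : τ → Γ(N, (⊤ : X.Opens))),
      β = ∑ t, r t • (show Γ((Scheme.Modules.pullback φ).obj N, (⊤ : X'.Opens)) from InvX.pullElt φ (U := ⊤) (s t)) ∧
      ∀ t j, ∃ z : Fin (n j) → Γ(N, V j), AModX.res N (le_top : V j ≤ ⊤) (s t) = ∑ a, g j a • z a := by
  classical
  haveI := Fintype.ofFinite J
  let ρ := Coh.toGlobal pA
  let ρ' := Coh.toGlobal pB
  have hρ := QCoh.toGlobal_comm pA pB φ h.w
  have hQ : Coh.IsQCoh N := QCoh.isQCoh_of_isFinLocFree (H23.PullPush.isFinLocFree_of_isInvertible hN)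
  let N' := (Scheme.Modules.pullback φ).obj N
  have hbc := QCoh.isAffineBC_of_isPullback h hQ
  letI iM : ∀ O : X.Opens, Module A Γ(N, O) := fun O => QCoh.secModule ρ N O
  letI iB : ∀ O : X'.Opens, Module B Γ(N', O) := fun O => QCoh.secModule ρ' N' O
  letI iA : ∀ O : X'.Opens, Module A Γ(N', O) := fun O => QCoh.secModule (ρ'.comp (algebraMap A B)) N' O
  haveI : ∀ O : X'.Opens, IsScalarTower A B Γ(N', O) := fun O => .of_algebraMap_smul fun _ _ => rfl
  let ι := Σ j, ULift.{u} (Fin (n j))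
  let σ : ∀ j, (∀ i : ι, Γ(N, V i.1)) → Γ(N, V j) := fun j z => ∑ a, g j a • z ⟨j, ⟨a⟩⟩
  have σ_add : ∀ j z w, σ j (z + w) = σ j z + σ j w := fun j z w => by
    simp only [σ, Pi.add_apply, smul_add, Finset.sum_add_distrib]
  have σ_smul : ∀ j (c : A) z, σ j (c • z) = c • σ j z := fun j c z => by
    simp only [σ, Finset.smul_sum]
    exact Finset.sum_congr rfl fun a _ => smul_comm (g j a)
      ((show Γ(X, V j) from (X.presheaf.map (homOfLE (le_top : V j ≤ ⊤)).op).hom (ρ c))) (z ⟨j, ⟨a⟩⟩)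
  let σ' : ∀ j, (∀ i : ι, Γ(N', φ ⁻¹ᵁ V i.1)) → Γ(N', φ ⁻¹ᵁ V j) := fun j z =>
    ∑ a, φ.app (V j) (g j a) • z ⟨j, ⟨a⟩⟩
  have σ'_add : ∀ j z w, σ' j (z + w) = σ' j z + σ' j w := fun j z w => by
    simp only [σ', Pi.add_apply, smul_add, Finset.sum_add_distrib]
  have σ'_smul : ∀ j (c : B) z, σ' j (c • z) = c • σ' j z := fun j c z => by
    simp only [σ', Finset.smul_sum]
    exact Finset.sum_congr rfl fun a _ => smul_comm (φ.app (V j) (g j a))
      ((show Γ(X', φ ⁻¹ᵁ V j) from (X'.presheaf.map (homOfLE (le_top : φ ⁻¹ᵁ V j ≤ ⊤)).op).hom (ρ' c)))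
      (z ⟨j, ⟨a⟩⟩)
  have res_smul : ∀ {O O' : X.Opens} (hle : O' ≤ O) (c : A) (x : Γ(N, O)),
      AModX.res N hle (c • x) = c • AModX.res N hle x := fun hle c x =>
    (AModX.res_smul hle _ x).trans (congrArg (· • AModX.res N hle x) (AModX.resR_resR le_top hle (ρ c)))
  have res_smul' : ∀ {O O' : X'.Opens} (hle : O' ≤ O) (c : B) (x : Γ(N', O)),
      AModX.res N' hle (c • x) = c • AModX.res N' hle x := fun hle c x =>
    (AModX.res_smul hle _ x).trans (congrArg (· • AModX.res N' hle x) (AModX.resR_resR le_top hle (ρ' c)))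
  let Ψ : (∀ i : ι, Γ(N, V i.1)) →ₗ[A] (∀ k : J × J, Γ(N, V k.1 ⊓ V k.2)) :=
    { toFun := fun z k => AModX.res N inf_le_left (σ k.1 z) - AModX.res N inf_le_right (σ k.2 z)
      map_add' := fun z w => funext fun k => by
        simp only [σ_add, map_add, Pi.add_apply]; abel
      map_smul' := fun c z => funext fun k => by
        simp only [σ_smul, res_smul, Pi.smul_apply, RingHom.id_apply, smul_sub] }
  let Ψ' : (∀ i : ι, Γ(N', φ ⁻¹ᵁ V i.1)) →ₗ[B] (∀ k : J × J, Γ(N', φ ⁻¹ᵁ (V k.1 ⊓ V k.2))) :=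
    { toFun := fun z k => AModX.res N' (φ.preimage_mono inf_le_left) (σ' k.1 z) -
        AModX.res N' (φ.preimage_mono inf_le_right) (σ' k.2 z)
      map_add' := fun z w => funext fun k => by
        simp only [σ'_add, map_add, Pi.add_apply]; abel
      map_smul' := fun c z => funext fun k => by
        simp only [σ'_smul, res_smul', Pi.smul_apply, RingHom.id_apply, smul_sub] }
  let lin : ∀ O : X.Opens, Γ(N, O) →ₗ[A] Γ(N', φ ⁻¹ᵁ O) := fun O =>
    QCoh.secLin ρ ρ' φ ((Scheme.Modules.pullbackPushforwardAdjunction φ).unit.app N) hρ O (φ ⁻¹ᵁ O) le_rfl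
  have hlin : ∀ O (x : Γ(N, O)), lin O x = InvX.pullElt φ x := fun O x => secLin_eq_pullElt h N O x
  have hσ : ∀ j z, σ' j (fun i => lin (V i.1) (z i)) = InvX.pullElt φ (σ j z) := fun j z => by
    show _ = ((Scheme.Modules.pullbackPushforwardAdjunction φ).unit.app N).app (V j) _
    rw [map_sum]
    exact Finset.sum_congr rfl fun a _ =>
      (congrArg (fun w : Γ(N', φ ⁻¹ᵁ V j) => φ.app (V j) (g j a) • w) (hlin (V j) (z ⟨j, ⟨a⟩⟩))).trans
        (InvX.pullElt_smul φ (g j a) (z ⟨j, ⟨a⟩⟩)).symm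
  obtain ⟨T, hT, hTz⟩ := exists_decomp (P := fun i : ι => Γ(N, V i.1)) (P' := fun i : ι => Γ(N', φ ⁻¹ᵁ V i.1))
    (Q := fun k : J × J => Γ(N, V k.1 ⊓ V k.2)) (Q' := fun k : J × J => Γ(N', φ ⁻¹ᵁ (V k.1 ⊓ V k.2)))
    (fun i => lin (V i.1)) (fun i => hbc _ (hV i.1))
    (fun k => lin (V k.1 ⊓ V k.2)) (fun k => hbc _ ((hV k.1).inf (hV k.2)))
    Ψ Ψ' (fun z k => by
      simp only [Ψ, Ψ', LinearMap.coe_mk, AddHom.coe_mk]
      rw [hσ, hσ, InvX.res_pullElt φ (inf_le_left : V k.1 ⊓ V k.2 ≤ V k.1),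
        InvX.res_pullElt φ (inf_le_right : V k.1 ⊓ V k.2 ≤ V k.2), ← hlin, ← hlin, ← map_sub])
    z' (funext fun k => by
      show AModX.res N' _ (σ' k.1 z') - AModX.res N' _ (σ' k.2 z') = 0
      rw [show σ' k.1 z' = _ from (hβ k.1).symm, show σ' k.2 z' = _ from (hβ k.2).symm, AModX.res_res,
        AModX.res_res, sub_self])
  have glue : ∀ t : ↥T, ∃ a : Γ(N, (⊤ : X.Opens)),
      ∀ j, AModX.res N (le_top : V j ≤ ⊤) a = σ j t.1.2 := fun t =>
    (AModX.existsUnique_glue (M := N) (V := (⊤ : X.Opens)) V (fun j => le_top)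
      (fun p _ => hcov p) (fun j => σ j t.1.2)
      (fun j l => sub_eq_zero.1 (congrFun (hT _ t.2) (j, l)))).exists
  choose s hs using glue
  refine ⟨↥T, inferInstance, fun t => ρ' t.1.1, s, ?_, fun t j => ⟨fun a => t.1.2 ⟨j, ⟨a⟩⟩, hs t j⟩⟩
  refine AModX.eq_of_locally _ _ fun p _ => ?_
  obtain ⟨j, hj⟩ := hcov (φ p)
  refine ⟨φ ⁻¹ᵁ V j, le_top, hj, ?_⟩
  rw [hβ, map_sum]
  have h2 : z' = ∑ t ∈ T, t.1 • fun i : ι => lin (V i.1) (t.2 i) := funext fun i => by
    rw [Finset.sum_apply, hTz i]; rfl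
  have h3 : σ' j z' = ∑ t ∈ T, t.1 • InvX.pullElt φ (σ j t.2) := by
    let σL : (∀ i : ι, Γ(N', φ ⁻¹ᵁ V i.1)) →ₗ[B] Γ(N', φ ⁻¹ᵁ V j) :=
      { toFun := σ' j, map_add' := σ'_add j, map_smul' := σ'_smul j }
    show σL z' = _
    rw [h2, map_sum]
    exact Finset.sum_congr rfl fun t _ => by
      rw [map_smul]
      exact congrArg (t.1 • ·) (hσ j t.2)
  refine h3.trans ?_
  rw [← Finset.sum_coe_sort T]
  refine Finset.sum_congr rfl fun t _ => ?_
  rw [← hs t j, ← InvX.res_pullElt φ (le_top : V j ≤ ⊤), AModX.res_smul]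
  rfl

theorem isAmple_of_pullback [Module.Flat A B] [QuasiCompact pA]
    (h : IsPullback φ pB pA (Spec.map (CommRingCat.ofHom (algebraMap A B))))
    (hs : Surjective (Spec.map (CommRingCat.ofHom (algebraMap A B))))
    {L : X.Modules} (hL : PicF.IsInvertible L)
    (hamp : CohB1.IsAmple ((Scheme.Modules.pullback φ).obj L)) : CohB1.IsAmple L := by
  classical
  haveI := hs
  haveI : CompactSpace X := QuasiCompact.compactSpace_of_compactSpace pA
  haveI : Surjective φ := MorphismProperty.of_isPullback h.flip inferInstance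
  haveI : X'.IsSeparated := AmpleX.isSeparated_of_isAmple hamp
  haveI : X.IsSeparated := by
    haveI := EtFound.fpqc_isSeparated.{u}
    haveI : IsSeparated pA := by
      haveI : Flat (Spec.map (CommRingCat.ofHom (algebraMap A B))) := by
        rw [HasRingHomProperty.Spec_iff (P := @Flat)]; exact RingHom.flat_algebraMap_iff.2 inferInstance
      exact MorphismProperty.of_isPullback_of_descendsAlong
        (Q := (@Surjective ⊓ @Flat ⊓ @QuasiCompact : MorphismProperty Scheme.{u})) h.flip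
        ⟨⟨inferInstance, inferInstance⟩, inferInstance⟩ inferInstance
    haveI : IsSeparated (terminal.from X) := by
      rw [← terminal.comp_from pA]; infer_instance
    exact ⟨inferInstance⟩
  refine AmpleX.isAmple_iff.2 ⟨hL, inferInstance, fun x => ?_⟩
  obtain ⟨x', rfl⟩ := φ.surjective x
  obtain ⟨W, hW, hxW, -⟩ := exists_isAffineOpen_mem_and_subset (x := φ x') (U := (⊤ : X.Opens)) trivial
  obtain ⟨m, hm, s₀, hxs, hsW, -⟩ := AmpleX.exists_genLocus_le hamp (x := x') (U := φ ⁻¹ᵁ W) hxW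
  let M := CohB1.tensorPow L m
  have hM : PicF.IsInvertible M := InvX.isInvertible_tensorPow hL m
  obtain ⟨e₁⟩ := cl_eq_iff.1 (show PicF.cl (CohB1.tensorPow ((Scheme.Modules.pullback φ).obj L) m) =
      PicF.cl ((Scheme.Modules.pullback φ).obj M) by
    show _ = PicF.pullCl φ (PicF.cl (CohB1.tensorPow L m))
    rw [cl_tensorPow, cl_tensorPow, pullCl_pow]; rfl)
  let b : Γ((Scheme.Modules.pullback φ).obj M, (⊤ : X'.Opens)) := e₁.hom.app ⊤ (InvX.one s₀)
  have hb : AmpleX.locus b = CohB1.genLocus _ s₀ := by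
    rw [AmpleX.genLocus_eq_locus]; exact AmpleX.locus_iso e₁ _
  have hcovV : ∀ y : X, ∃ (O : X.Opens) (_ : y ∈ O) (e : Γ(M, O)), IsAffineOpen O ∧ InvX.IsFrame e := fun y => by
    obtain ⟨U, hyU, e, he⟩ := InvX.exists_frame hM y
    obtain ⟨O, hO, hyO, hOU⟩ := exists_isAffineOpen_mem_and_subset (x := y) (U := U) hyU
    exact ⟨O, hyO, AModX.res M hOU e, hO, he.res _⟩
  choose O hyO e hO he using hcovV
  obtain ⟨t, ht⟩ := isCompact_univ.elim_finite_subcover (fun y => (O y : Set X)) (fun y => (O y).2)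
    (fun y _ => Set.mem_iUnion.2 ⟨y, hyO y⟩)
  have hcov : ∀ y : X, ∃ j : ↥t, y ∈ O j.1 := fun y => by
    obtain ⟨z, hz, hyz⟩ := Set.mem_iUnion₂.1 (ht (Set.mem_univ y))
    exact ⟨⟨z, hz⟩, hyz⟩
  choose n g hg using fun j : ↥t => exists_finite_basicOpens (W := W) (hO j.1) ((hO j.1).inf hW).isCompact
  have haff : ∀ j : ↥t, IsAffineOpen (φ ⁻¹ᵁ O j.1) := fun j => by
    haveI : IsAffineHom φ := MorphismProperty.of_isPullback h.flip inferInstance
    exact (hO j.1).preimage φ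
  choose c hc using fun j : ↥t => (InvX.isFrame_pullElt φ (he j.1)).exists_coord le_rfl
    (AModX.res _ (le_top : φ ⁻¹ᵁ O j.1 ≤ ⊤) b)
  simp only [AModX.res_self] at hc
  have hpow : ∀ j : ↥t, ∃ k, c j ^ k ∈ Ideal.span (Set.range fun a => φ.app (O j.1) (g j a)) := fun j => by
    refine exists_pow_mem_span (haff j) (c j) _ fun y hy => ?_
    have hy' := (AmpleX.locus_inf b le_top (InvX.isFrame_pullElt φ (he j.1)) (hc j)).ge hy
    obtain ⟨a, ha⟩ := (hg j (φ y)).1 ⟨hy'.2, hsW (hb ▸ hy'.1)⟩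
    exact ⟨a, by rw [← Scheme.preimage_basicOpen]; exact ha⟩
  choose k hk using hpow
  let K := Finset.univ.sup k + 1
  let N := CohB1.tensorPow M K
  have hN : PicF.IsInvertible N := InvX.isInvertible_tensorPow hM K
  obtain ⟨ψ⟩ := cl_eq_iff.1 (show PicF.cl (CohB1.tensorPow ((Scheme.Modules.pullback φ).obj M) K) =
      PicF.cl ((Scheme.Modules.pullback φ).obj N) by
    show _ = PicF.pullCl φ (PicF.cl (CohB1.tensorPow M K))
    rw [cl_tensorPow, cl_tensorPow, pullCl_pow]; rfl)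
  let β : Γ((Scheme.Modules.pullback φ).obj N, (⊤ : X'.Opens)) := ψ.hom.app ⊤ (AmpleX.powElt b K)
  have hβlocus : AmpleX.locus β = AmpleX.locus b := (AmpleX.locus_iso ψ _).trans
    (AmpleX.locus_powElt (PicClLib.isInvertible_pullback _ hM) b _)
  have hcoord : ∀ j : ↥t, ∃ r : Fin (n j) → Γ(X', φ ⁻¹ᵁ O j.1),
      AModX.res _ (le_top : φ ⁻¹ᵁ O j.1 ≤ ⊤) β =
        ∑ a, φ.app (O j.1) (g j a) • (r a • InvX.pullElt φ (AmpleX.powElt (e j.1) K)) := fun j => by
    obtain ⟨u, hu⟩ := (InvX.isFrame_pullElt φ (AmpleX.isFrame_powElt (he j.1) K)).exists_coord le_rfl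
      (ψ.hom.app (φ ⁻¹ᵁ O j.1) (AmpleX.powElt (InvX.pullElt φ (e j.1)) K))
    rw [AModX.res_self] at hu
    have hmem : c j ^ K * u ∈ Ideal.span (Set.range fun a => φ.app (O j.1) (g j a)) := by
      refine Ideal.mul_mem_right _ _ (Ideal.pow_mem_of_pow_mem _ (hk j) ?_)
      exact (Finset.le_sup (Finset.mem_univ j)).trans (Nat.le_succ _)
    obtain ⟨r, hr⟩ := Ideal.mem_span_range_iff_exists_fun.1 hmem
    refine ⟨r, ?_⟩
    rw [← AModX.app_res, AmpleX.res_powElt, hc, AmpleX.powElt_smul, Scheme.Modules.Hom.app_smul, hu,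
      ← mul_smul, ← hr, Finset.sum_smul]
    exact Finset.sum_congr rfl fun a _ => by rw [← mul_smul, mul_comm (r a)]
  choose r hr using hcoord
  obtain ⟨τ, _, R, S, hβeq, hS⟩ := exists_sections_vanishing h hN (fun j : ↥t => O j.1) (fun j => hO j.1)
    hcov n g β (fun i => r i.1 i.2.down • InvX.pullElt φ (AmpleX.powElt (e i.1.1) K)) hr
  have hxβ : x' ∈ AmpleX.locus β := by rw [hβlocus, hb]; exact hxs
  obtain ⟨i, hi⟩ : ∃ i, φ x' ∈ AmpleX.locus (S i) := by
    by_contra! hno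
    refine (not_mem_locus_sum (M := (Scheme.Modules.pullback φ).obj N) (PicClLib.isInvertible_pullback _ hN)
      (U := (⊤ : X'.Opens)) Finset.univ R
      (fun i => (InvX.pullElt φ (U := (⊤ : X.Opens)) (S i))) trivial fun i _ => Or.inr ?_) (hβeq ▸ hxβ)
    intro hmem
    exact hno i ((AmpleX.locus_pullElt hN φ (S i)).le hmem)
  have hle : AmpleX.locus (S i) ≤ W := fun y hy => by
    obtain ⟨j, hj⟩ := hcov y
    obtain ⟨z, hz⟩ := hS i j
    by_contra hyW
    refine not_mem_locus_sum hN Finset.univ (g j) z hj (fun a _ => Or.inl fun ha => ?_) ?_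
    · exact hyW ((hg j y).2 ⟨a, ha⟩).2
    · rw [← hz, AmpleX.locus_res]
      exact ⟨hy, hj⟩
  obtain ⟨e₂⟩ := cl_eq_iff.1 (show PicF.cl N = PicF.cl (CohB1.tensorPow L (m * K)) by
    rw [cl_tensorPow, cl_tensorPow, cl_tensorPow, ← pow_mul])
  refine ⟨m * K, Nat.mul_pos hm (Nat.succ_pos _), InvX.ofSect (e₂.hom.app ⊤ (S i)), ?_⟩
  have hloc : CohB1.genLocus _ (InvX.ofSect (e₂.hom.app ⊤ (S i))) = AmpleX.locus (S i) := by
    rw [AmpleX.genLocus_eq_locus, InvX.one_ofSect, AmpleX.locus_iso]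
  rw [hloc]
  refine ⟨hi, ?_⟩
  have := AmpleX.isAffineOpen_inf_locus hN hW (S i) le_top
  rw [inf_eq_right.2 hle] at this
  exact this

end Groth.Agent.Quiet5.AmpleFpqc
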