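import Groth.Prelude.Def_W4c2gaugesfzipsQuiet
import Mathlib.AlgebraicGeometry.Restrict
import Mathlib.AlgebraicGeometry.PullbackCarrier
import Mathlib.Algebra.Category.Ring.Constructions
import Groth.Agent.FlatBC5.Basic

/-!
# Base change of root towers and `p`-th root morphisms
-/

set_option autoImplicit false
set_option linter.style.haveILetI false

universe u

open CategoryTheory CategoryTheory.Limits AlgebraicGeometry Polynomial

namespace Groth.Agent.Quiet5

open Quiet in
theorem isRootTower_baseChange (p : ℕ) : ∀ (n : ℕ) {A B A' B' : CommRingCat.{u}} (f : A ⟶ B) (g : A ⟶ A')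
    (g' : B ⟶ B') (f' : A' ⟶ B'), IsPushout f g g' f' →
    (letI := f.hom.toAlgebra; IsRootTower p n A B) → (letI := f'.hom.toAlgebra; IsRootTower p n A' B')
  | 0, A, B, A', B', f, g, g', f', h, hT => by
    letI := f.hom.toAlgebra
    obtain ⟨e⟩ := hT
    have hb : Function.Bijective f.hom := by
      have : ∀ a, f.hom a = e.symm a := fun a => (e.symm.commutes a).symm
      rw [show ⇑f.hom = ⇑e.symm from funext this]
      exact e.symm.bijective
    haveI : IsIso f := (ConcreteCategory.isIso_iff_bijective f).2 hb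
    haveI : IsIso f' := h.isIso_inr_of_isIso
    letI := f'.hom.toAlgebra
    exact ⟨(AlgEquiv.ofBijective (Algebra.ofId A' B') (ConcreteCategory.bijective_of_isIso f')).symm⟩
  | n + 1, A, B, A', B', f, g, g', f', h, hT => by
    letI := f.hom.toAlgebra
    obtain ⟨a, alg, htow, hn⟩ := hT
    let A1 := CommRingCat.of (RootRing p A a)
    let A1' := CommRingCat.of (RootRing p A' (g a))
    let i : A ⟶ A1 := CommRingCat.ofHom (AdjoinRoot.of _)
    let i' : A' ⟶ A1' := CommRingCat.ofHom (AdjoinRoot.of _)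
    have hroot' : (AdjoinRoot.root (X ^ p - C (g a) : A'[X])) ^ p = AdjoinRoot.of _ (g a) := by
      have := AdjoinRoot.eval₂_root (X ^ p - C (g a) : A'[X])
      rw [eval₂_sub, eval₂_pow, eval₂_X, eval₂_C] at this
      exact sub_eq_zero.1 this
    let g1 : A1 ⟶ A1' := CommRingCat.ofHom (AdjoinRoot.lift (g ≫ i').hom (AdjoinRoot.root _) (by
      rw [eval₂_sub, eval₂_pow, eval₂_X, eval₂_C, hroot']
      exact sub_self _))
    have sq : IsPushout i g g1 i' := by
      refine ⟨⟨?_⟩, ⟨PushoutCocone.IsColimit.mk _ (fun s => CommRingCat.ofHom (AdjoinRoot.lift s.inr.hom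
        (s.inl.hom (AdjoinRoot.root _)) ?_)) (fun s => ?_) (fun s => ?_) (fun s m hl hr => ?_)⟩⟩
      · refine CommRingCat.hom_ext (RingHom.ext fun x => ?_)
        simp [g1, i, i']
        exact AdjoinRoot.lift_of _
      · rw [eval₂_sub, eval₂_pow, eval₂_X, eval₂_C, ← map_pow]
        have h1 : (AdjoinRoot.root (X ^ p - C a : A[X])) ^ p = AdjoinRoot.of _ a := by
          have := AdjoinRoot.eval₂_root (X ^ p - C a : A[X])
          rw [eval₂_sub, eval₂_pow, eval₂_X, eval₂_C] at this
          exact sub_eq_zero.1 this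
        rw [h1]
        exact sub_eq_zero.2 congr($(s.condition).hom a)
      · refine CommRingCat.hom_ext (AdjoinRoot.ringHom_ext (RingHom.ext fun x => ?_) ?_)
        · simp [g1]
          erw [AdjoinRoot.lift_of]
          exact congr($(s.condition).hom x).symm
        · simp [g1]
          erw [AdjoinRoot.lift_root]
      · refine CommRingCat.hom_ext (RingHom.ext fun x => ?_)
        simp [i']
        exact AdjoinRoot.lift_of _
      · refine CommRingCat.hom_ext (AdjoinRoot.ringHom_ext (RingHom.ext fun x => ?_) ?_)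
        · simp
          exact congr($(hr).hom x)
        · have h2 := congr($(hl).hom (AdjoinRoot.root _))
          simp [g1] at h2 ⊢
          erw [AdjoinRoot.lift_root] at h2
          exact h2
    let j : A1 ⟶ B := CommRingCat.ofHom (algebraMap (RootRing p A a) B)
    have hij : i ≫ j = f := by
      ext x
      exact (IsScalarTower.algebraMap_apply A (RootRing p A a) B x).symm
    have hcond : i ≫ j ≫ g' = g ≫ f' := by rw [reassoc_of% hij, h.w]
    let j' : A1' ⟶ B' := sq.desc (j ≫ g') f' hcond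
    have hi'j' : i' ≫ j' = f' := sq.inr_desc _ _ _
    have sq2 : IsPushout j g1 g' j' :=
      IsPushout.of_left (by rw [hij, hi'j']; exact h) (sq.inl_desc _ _ _).symm sq
    have hj : (letI := j.hom.toAlgebra; IsRootTower p n A1 B) := by
      have e : alg = j.hom.toAlgebra := Algebra.algebra_ext _ _ fun _ => rfl
      rw [← e]
      exact hn
    letI := f'.hom.toAlgebra
    refine ⟨g a, j'.hom.toAlgebra, ?_, isRootTower_baseChange p n j g1 g' j' sq2 hj⟩
    letI := j'.hom.toAlgebra
    exact IsScalarTower.of_algebraMap_eq fun x => (congr($(hi'j').hom x)).symm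

variable {X Y X' Y' : Scheme.{u}}

theorem isPthRoot_of_isPullback {p : ℕ} {r : Y ⟶ X} {k : X' ⟶ X} {r' : Y' ⟶ X'} {g' : Y' ⟶ Y}
    (H : IsPullback g' r' r k) (hr : Quiet.IsPthRoot p r) : Quiet.IsPthRoot p r' := by
  intro x'
  obtain ⟨U, hxU, hU', n, hT⟩ := hr (k x')
  obtain ⟨O, hO, hxO, hOU⟩ := exists_isAffineOpen_mem_and_subset (x := x') (U := k ⁻¹ᵁ U.1) hxU
  have hW : r' ⁻¹ᵁ O = g' ⁻¹ᵁ (r ⁻¹ᵁ U.1) ⊓ r' ⁻¹ᵁ O := by
    refine (inf_eq_right.2 fun y hy => ?_).symm
    show r (g' y) ∈ U.1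
    rw [show r (g' y) = k (r' y) from congr($(H.w) y)]
    exact hOU hy
  have haff : IsAffineOpen (r' ⁻¹ᵁ O) := by
    haveI : IsAffine _ := U.2
    haveI : IsAffine _ := hU'
    haveI : IsAffine _ := hO
    exact .of_isIso (Scheme.Hom.isPullback_resLE H hOU le_rfl hW).isoPullback.hom
  have hpo := (isIso_pushoutSection_iff H hOU le_rfl hW).mp
    (isIso_pushoutSection_of_isAffineOpen H hOU le_rfl hW U.2 hO hU')
  refine ⟨⟨O, hO⟩, hxO, haff, n, ?_⟩
  have := isRootTower_baseChange p n _ _ _ _ hpo (by rw [← Scheme.Hom.app_eq_appLE]; exact hT)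
  rw [← Scheme.Hom.app_eq_appLE] at this
  exact this

theorem isQuiet_of_isPullback {p : ℕ} {f : Y ⟶ X} {g : X' ⟶ X} {f' : Y' ⟶ X'} {g' : Y' ⟶ Y}
    (H : IsPullback g' f' f g) (hf : Quiet.IsQuiet p f) : Quiet.IsQuiet p f' := by
  intro y'
  obtain ⟨V, Z, r, e, hyV, hr, he, hre⟩ := hf (g' y')
  have s := (isPullback_morphismRestrict g' V).paste_vert H
  rw [← hre] at s
  let r' : (g' ⁻¹ᵁ V).toScheme ⟶ pullback e g :=
    pullback.lift ((g' ∣_ V) ≫ r) ((g' ⁻¹ᵁ V).ι ≫ f') (by rw [Category.assoc, s.w])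
  have hsnd : r' ≫ pullback.snd e g = (g' ⁻¹ᵁ V).ι ≫ f' := pullback.lift_snd _ _ _
  rw [← hsnd] at s
  have h1 := IsPullback.of_bot s (pullback.lift_fst _ _ _).symm (IsPullback.of_hasPullback e g)
  exact ⟨_, _, r', pullback.snd e g, hyV, isPthRoot_of_isPullback h1 hr, inferInstance, hsnd⟩

end Groth.Agent.Quiet5
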