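import Groth.Agent.Quiet5.BC
import Groth.Agent.AlgSpLib.UHScheme
import Groth.Prelude.Def_Frob
import Mathlib

/-!
# Composition of quasi-étale morphisms in characteristic `p`
-/

set_option backward.isDefEq.respectTransparency false
set_option backward.isDefEq.respectTransparency.types false

universe u

open CategoryTheory CategoryTheory.Limits AlgebraicGeometry Polynomial TensorProduct

namespace Groth.Agent.Quiet5

theorem root_universallyInjective_surjective_integral (p : ℕ) (hp : p.Prime) (A : Type u) [CommRing A]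
    (hA : (p : A) = 0) (a : A) :
    UniversallyInjective (Spec.map (CommRingCat.ofHom (algebraMap A (Quiet.RootRing p A a)))) ∧
      Surjective (Spec.map (CommRingCat.ofHom (algebraMap A (Quiet.RootRing p A a)))) ∧
      IsIntegralHom (Spec.map (CommRingCat.ofHom (algebraMap A (Quiet.RootRing p A a)))) := by
  set B := Quiet.RootRing p A a with hB
  have hm : (X ^ p - C a : A[X]).Monic := monic_X_pow_sub_C a hp.ne_zero
  haveI : Module.Finite A B := hm.finite_adjoinRoot
  refine ⟨?_, ?_, ?_⟩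
  · rw [UniversallyInjective.iff_diagonal, diagonal_SpecMap]
    let μ := (Algebra.TensorProduct.lmul' A : B ⊗[A] B →ₐ[A] B)
    have hsurj : Function.Surjective μ.toRingHom := fun b => ⟨b ⊗ₜ 1, by simp [μ]⟩
    have hker : RingHom.ker μ.toRingHom ≤ nilradical (B ⊗[A] B) := by
      intro x hx
      have hx' : x ∈ KaehlerDifferential.ideal A B := hx
      rw [← KaehlerDifferential.span_range_eq_ideal] at hx'
      refine (Ideal.span_le.2 ?_) hx'
      rintro _ ⟨b, rfl⟩
      rw [SetLike.mem_coe, mem_nilradical]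
      obtain ⟨P, rfl⟩ := AdjoinRoot.mk_surjective (g := (X ^ p - C a : A[X])) b
      beta_reduce
      induction P using Polynomial.induction_on' with
      | add P Q hP hQ =>
        rw [map_add, TensorProduct.tmul_add, TensorProduct.add_tmul, add_sub_add_comm]
        exact (Commute.all _ _).isNilpotent_add hP hQ
      | monomial k c =>
        set x : B := AdjoinRoot.root (X ^ p - C a : A[X]) with hx0
        have hxp : x ^ p = algebraMap A B a := by
          have h := AdjoinRoot.eval₂_root (X ^ p - C a : A[X])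
          rw [eval₂_sub, eval₂_pow, eval₂_X, eval₂_C, sub_eq_zero] at h
          exact h
        have hd : IsNilpotent ((1 : B) ⊗ₜ[A] x - x ⊗ₜ[A] (1 : B)) := by
          haveI : Fact p.Prime := ⟨hp⟩
          rcases subsingleton_or_nontrivial (B ⊗[A] B) with hs | hs
          · exact ⟨1, Subsingleton.elim _ _⟩
          haveI : CharP (B ⊗[A] B) p := (CharP.charP_iff_prime_eq_zero hp).2 (by
            rw [← map_natCast (algebraMap A (B ⊗[A] B)), hA, map_zero])
          refine ⟨p, ?_⟩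
          rw [sub_pow_char, Algebra.TensorProduct.tmul_pow, Algebra.TensorProduct.tmul_pow, one_pow, hxp,
            Algebra.algebraMap_eq_smul_one, TensorProduct.tmul_smul, ← TensorProduct.smul_tmul', sub_self]
        have hmon : AdjoinRoot.mk (X ^ p - C a : A[X]) (monomial k c) = c • x ^ k := by
          rw [← C_mul_X_pow_eq_monomial, map_mul, map_pow, AdjoinRoot.mk_C, AdjoinRoot.mk_X, Algebra.smul_def]
          rfl
        rw [hmon, TensorProduct.tmul_smul, ← TensorProduct.smul_tmul', ← smul_sub, Algebra.smul_def]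
        refine (Commute.all _ _).isNilpotent_mul_left ?_
        suffices h : IsNilpotent (((1 : B) ⊗ₜ[A] x) ^ k - (x ⊗ₜ[A] (1 : B)) ^ k) by
          simpa [Algebra.TensorProduct.tmul_pow] using h
        rw [← geom_sum₂_mul]
        exact (Commute.all _ _).isNilpotent_mul_left hd
    haveI : Surjective (Spec.map (CommRingCat.ofHom μ.toRingHom)) := by
      refine ⟨fun q => ?_⟩
      obtain ⟨q', hq'⟩ : q ∈ Set.range (PrimeSpectrum.comap μ.toRingHom) := by
        rw [range_comap_of_surjective _ _ hsurj]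
        exact hker.trans (nilradical_le_prime _)
      exact ⟨q', hq'⟩
    exact inferInstanceAs (Surjective (Spec.map (CommRingCat.ofHom μ.toRingHom) ≫ (pullbackSpecIso A B B).inv))
  · refine ⟨fun q => ?_⟩
    haveI : Module.Free A B := hm.free_adjoinRoot
    haveI : q.asIdeal.IsPrime := q.isPrime
    haveI : Nontrivial A := q.isPrime.ne_top |> fun h => ⟨⟨0, 1, fun e => h ((Ideal.eq_top_iff_one _).2 (e ▸ q.asIdeal.zero_mem))⟩⟩
    haveI : Nontrivial B := nontrivial_of_ne _ _ ((AdjoinRoot.powerBasis' hm).basis.ne_zero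
      ⟨0, by rw [AdjoinRoot.powerBasis'_dim, natDegree_X_pow_sub_C]; exact hp.pos⟩)
    haveI : Module.FaithfullyFlat A B := inferInstance
    obtain ⟨r, hr⟩ := PrimeSpectrum.comap_surjective_of_faithfullyFlat (A := A) (B := B) q
    exact ⟨r, hr⟩
  · refine (IsIntegralHom.SpecMap_iff).2 ?_
    exact fun b => IsIntegral.of_finite A b

theorem tower_universallyInjective_surjective_integral (p : ℕ) (hp : p.Prime) : ∀ (n : ℕ) (A B : Type u)
    [CommRing A] [CommRing B] [Algebra A B], (p : A) = 0 → Quiet.IsRootTower p n A B →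
    UniversallyInjective (Spec.map (CommRingCat.ofHom (algebraMap A B))) ∧
      Surjective (Spec.map (CommRingCat.ofHom (algebraMap A B))) ∧
      IsIntegralHom (Spec.map (CommRingCat.ofHom (algebraMap A B)))
  | 0, A, B, _, _, _, _, h => by
    obtain ⟨e⟩ := h
    haveI : IsIso (CommRingCat.ofHom (algebraMap A B)) := by
      rw [show algebraMap A B = e.symm.toRingEquiv.toRingHom from RingHom.ext fun a => (e.symm.commutes a).symm]
      exact (RingEquiv.toCommRingCatIso e.symm.toRingEquiv).isIso_hom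
    exact ⟨inferInstance, inferInstance, inferInstance⟩
  | n + 1, A, B, _, _, _, hA, h => by
    obtain ⟨a, alg, tow, ht⟩ := h
    obtain ⟨h1, h2, h3⟩ := root_universallyInjective_surjective_integral p hp A hA a
    obtain ⟨k1, k2, k3⟩ := tower_universallyInjective_surjective_integral p hp n (Quiet.RootRing p A a) B
      (by rw [← map_natCast (algebraMap A (Quiet.RootRing p A a)), hA, map_zero]) ht
    rw [IsScalarTower.algebraMap_eq A (Quiet.RootRing p A a) B, CommRingCat.ofHom_comp, Spec.map_comp]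
    exact ⟨MorphismProperty.comp_mem (@UniversallyInjective) _ _ k1 h1,
      MorphismProperty.comp_mem (@Surjective) _ _ k2 h2, MorphismProperty.comp_mem (@IsIntegralHom) _ _ k3 h3⟩

/-- Root towers compose. -/
theorem isRootTower_comp (p : ℕ) : ∀ (n m : ℕ) {A B C : CommRingCat.{u}} (f : A ⟶ B) (g : B ⟶ C),
    (letI := f.hom.toAlgebra; Quiet.IsRootTower p n A B) → (letI := g.hom.toAlgebra; Quiet.IsRootTower p m B C) →
    ∃ k, (letI := (f ≫ g).hom.toAlgebra; Quiet.IsRootTower p k A C)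
  | 0, m, A, B, C, f, g, hf, hg => by
    haveI : IsIso f := by
      letI := f.hom.toAlgebra
      obtain ⟨e⟩ := hf
      rw [show f = (RingEquiv.toCommRingCatIso e.symm.toRingEquiv).hom from
        CommRingCat.hom_ext (RingHom.ext fun a => (e.symm.commutes a).symm)]
      infer_instance
    exact ⟨m, isRootTower_baseChange p m g (inv f) (𝟙 C) (f ≫ g)
      (IsPushout.of_vert_isIso ⟨by simp⟩) hg⟩
  | n + 1, m, A, B, C, f, g, hf, hg => by
    letI := f.hom.toAlgebra
    obtain ⟨a, alg, tow, ht⟩ := hf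
    let j : A ⟶ CommRingCat.of (Quiet.RootRing p A a) := CommRingCat.ofHom (algebraMap A _)
    let f₁ : CommRingCat.of (Quiet.RootRing p A a) ⟶ B := CommRingCat.ofHom (algebraMap (Quiet.RootRing p A a) B)
    have hf₁ : (letI := f₁.hom.toAlgebra; Quiet.IsRootTower p n (CommRingCat.of (Quiet.RootRing p A a)) B) := by
      convert ht using 1
      exact Algebra.algebra_ext _ _ fun r => rfl
    obtain ⟨k, hk⟩ := isRootTower_comp p n m f₁ g hf₁ hg
    refine ⟨k + 1, ?_⟩
    letI := (f ≫ g).hom.toAlgebra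
    refine ⟨a, (f₁ ≫ g).hom.toAlgebra, ?_, hk⟩
    letI := (f₁ ≫ g).hom.toAlgebra
    refine IsScalarTower.of_algebraMap_eq fun r => ?_
    exact congrArg g.hom (IsScalarTower.algebraMap_apply A (Quiet.RootRing p A a) B r)

variable {X Y Z : Scheme.{u}} {p : ℕ}

/-- Affine opens inside a good affine open are good. -/
theorem tower_of_le {r : Y ⟶ X} {U : X.Opens} (hU : IsAffineOpen U) (hU' : IsAffineOpen (r ⁻¹ᵁ U)) {n : ℕ}
    (hT : letI := (r.app U).hom.toAlgebra; Quiet.IsRootTower p n Γ(X, U) Γ(Y, r ⁻¹ᵁ U))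
    {O : X.Opens} (hO : IsAffineOpen O) (hOU : O ≤ U) :
    IsAffineOpen (r ⁻¹ᵁ O) ∧ (letI := (r.app O).hom.toAlgebra; Quiet.IsRootTower p n Γ(X, O) Γ(Y, r ⁻¹ᵁ O)) := by
  have H : IsPullback (𝟙 Y) r r (𝟙 X) := IsPullback.id_horiz r
  have hOU' : O ≤ (𝟙 X) ⁻¹ᵁ U := hOU
  have hW : r ⁻¹ᵁ O = (𝟙 Y) ⁻¹ᵁ (r ⁻¹ᵁ U) ⊓ r ⁻¹ᵁ O := (inf_eq_right.2 fun y hy => hOU hy).symm
  have haff : IsAffineOpen (r ⁻¹ᵁ O) := by
    haveI : IsAffine _ := hU
    haveI : IsAffine _ := hU'
    haveI : IsAffine _ := hO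
    exact .of_isIso (Scheme.Hom.isPullback_resLE H hOU' le_rfl hW).isoPullback.hom
  have hpo := (isIso_pushoutSection_iff H hOU' le_rfl hW).mp
    (isIso_pushoutSection_of_isAffineOpen H hOU' le_rfl hW hU hO hU')
  refine ⟨haff, ?_⟩
  have := isRootTower_baseChange p n _ _ _ _ hpo (by rw [← Scheme.Hom.app_eq_appLE]; exact hT)
  rw [← Scheme.Hom.app_eq_appLE] at this
  exact this

theorem properties_of_isPthRoot (hp : p.Prime) [FrobSch.IsCharP X p] (r : Y ⟶ X) (hr : Quiet.IsPthRoot p r) :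
    UniversallyInjective r ∧ Surjective r ∧ IsIntegralHom r := by
  have key : ∀ x : X, ∃ U : X.Opens, x ∈ U ∧
      UniversallyInjective (r ∣_ U) ∧ Surjective (r ∣_ U) ∧ IsIntegralHom (r ∣_ U) := by
    intro x
    obtain ⟨U, hxU, hU', n, hT⟩ := hr x
    letI := (r.app U.1).hom.toAlgebra
    obtain ⟨h1, h2, h3⟩ := tower_universallyInjective_surjective_integral p hp n _ _
      (FrobSch.natCast_eq_zero_app X p U.1) hT
    refine ⟨U.1, hxU, ?_⟩
    have he : r ∣_ U.1 = hU'.isoSpec.hom ≫ Spec.map (r.app U.1) ≫ U.2.isoSpec.inv := by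
      rw [← Category.assoc, Iso.eq_comp_inv, ← cancel_mono (U.2.isoSpec.inv), Category.assoc, Category.assoc,
        Iso.hom_inv_id, Category.comp_id, ← cancel_mono U.1.ι, morphismRestrict_ι, Category.assoc, Category.assoc,
        U.2.isoSpec_inv_ι, Scheme.Hom.app_eq_appLE, U.2.SpecMap_appLE_fromSpec r hU', ← hU'.isoSpec_inv_ι,
        Category.assoc, Iso.hom_inv_id_assoc]
    rw [he]
    exact ⟨(MorphismProperty.cancel_left_of_respectsIso (@UniversallyInjective) _ _).2
        ((MorphismProperty.cancel_right_of_respectsIso (@UniversallyInjective) _ _).2 h1),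
      (MorphismProperty.cancel_left_of_respectsIso (@Surjective) _ _).2
        ((MorphismProperty.cancel_right_of_respectsIso (@Surjective) _ _).2 h2),
      (MorphismProperty.cancel_left_of_respectsIso (@IsIntegralHom) _ _).2
        ((MorphismProperty.cancel_right_of_respectsIso (@IsIntegralHom) _ _).2 h3)⟩
  choose U hxU h1 h2 h3 using key
  have hcov : iSup U = ⊤ := top_le_iff.1 fun x _ => TopologicalSpace.Opens.mem_iSup.2 ⟨x, hxU x⟩
  exact ⟨(IsZariskiLocalAtTarget.iff_of_iSup_eq_top (P := @UniversallyInjective) U hcov).2 h1,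
    (IsZariskiLocalAtTarget.iff_of_iSup_eq_top (P := @Surjective) U hcov).2 h2,
    (IsZariskiLocalAtTarget.iff_of_iSup_eq_top (P := @IsIntegralHom) U hcov).2 h3⟩

theorem isPthRoot_comp (hp : p.Prime) [FrobSch.IsCharP X p] (r₂ : Z ⟶ Y) (r₁ : Y ⟶ X)
    (h₂ : Quiet.IsPthRoot p r₂) (h₁ : Quiet.IsPthRoot p r₁) : Quiet.IsPthRoot p (r₂ ≫ r₁) := by
  intro x
  obtain ⟨hui, hs, hint⟩ := properties_of_isPthRoot hp r₁ h₁
  obtain ⟨U, hxU, hU', n, hT⟩ := h₁ x
  obtain ⟨y, hy⟩ := r₁.surjective x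
  obtain ⟨V, hyV, hV', m, hT₂⟩ := h₂ y
  -- the open set of points all of whose preimages lie in `V`
  have hopen : IsOpen (r₁.base '' (V.1 : Set Y)ᶜ)ᶜ :=
    (r₁.isClosedMap _ V.1.isOpen.isClosed_compl).isOpen_compl
  let T : X.Opens := U.1 ⊓ ⟨(r₁.base '' (V.1 : Set Y)ᶜ)ᶜ, hopen⟩
  have hxT : x ∈ T := ⟨hxU, fun ⟨y', hy', e⟩ => hy' (by
    have := r₁.injective (e.trans hy.symm)
    rw [this]
    exact hyV)⟩
  obtain ⟨O, hO, hxO, hOT⟩ := exists_isAffineOpen_mem_and_subset (x := x) (U := T) hxT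
  obtain ⟨hO', hTO⟩ := tower_of_le U.2 hU' hT hO fun z hz => (hOT hz).1
  obtain ⟨hO'', hTO₂⟩ := tower_of_le V.2 hV' hT₂ hO' fun z hz => by
    by_contra hzV
    exact (hOT hz).2 ⟨z, hzV, rfl⟩
  obtain ⟨k, hk⟩ := isRootTower_comp p n m (r₁.app O) (r₂.app (r₁ ⁻¹ᵁ O)) hTO hTO₂
  refine ⟨⟨O, hO⟩, hxO, hO'', k, ?_⟩
  rw [Scheme.Hom.comp_app]
  exact hk

theorem isQuiet_comp (hp : p.Prime) [FrobSch.IsCharP X p] (f : Y ⟶ X) (g : Z ⟶ Y)
    (hf : Quiet.IsQuiet p f) (hg : Quiet.IsQuiet p g) : Quiet.IsQuiet p (g ≫ f) := by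
  intro z
  obtain ⟨W, Y₂, r₂, e₂, hzW, hr₂, he₂, hre₂⟩ := hg z
  obtain ⟨V, Y₁, r₁, e₁, hV, hr₁, he₁, hre₁⟩ := hf (g z)
  -- restrict the first factorisation to the preimage of `V`
  let O : Y₂.Opens := e₂ ⁻¹ᵁ V
  have hr₂' : Quiet.IsPthRoot p (r₂ ∣_ O) :=
    isPthRoot_of_isPullback (isPullback_morphismRestrict r₂ O).flip hr₂
  haveI := FrobSch.IsCharP.of_hom e₁ p
  obtain ⟨hui, hs, hint⟩ := properties_of_isPthRoot hp r₁ hr₁
  haveI := AlgSpLib.UHDesc.bc_isEquivalence r₁
  have het : Etale (e₂ ∣_ V) := inferInstance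
  let O' : (V : Scheme.{u}).Etale := MorphismProperty.Over.mk ⊤ (e₂ ∣_ V) het
  let E := (EtCoh.bc r₁).objPreimage O'
  let φ := (EtCoh.bc r₁).objObjPreimageIso O'
  haveI : Etale E.hom := E.prop
  have hφw : φ.inv.left ≫ pullback.snd E.hom r₁ = e₂ ∣_ V := MorphismProperty.Over.w φ.inv
  haveI : IsIso φ.inv.left :=
    ((MorphismProperty.Over.forget EtCoh.etaleMP ⊤ (V : Scheme.{u}) ⋙ Over.forget _).mapIso φ.symm).isIso_hom
  let q : (O : Scheme.{u}) ⟶ E.left := φ.inv.left ≫ pullback.fst E.hom r₁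
  have hq : Quiet.IsPthRoot p q := by
    refine isPthRoot_of_isPullback (r := r₁) (k := E.hom) (g' := e₂ ∣_ V) ?_ hr₁
    exact (IsPullback.of_hasPullback E.hom r₁).flip.of_iso (asIso φ.inv.left).symm (Iso.refl _) (Iso.refl _)
      (Iso.refl _) (by simp [← hφw]) (by simp [q]) (by simp) (by simp)
  haveI : FrobSch.IsCharP E.left p := FrobSch.IsCharP.of_hom (X := E.left) (Y := X) (E.hom ≫ e₁) p
  have hcomp : Quiet.IsPthRoot p ((r₂ ∣_ O) ≫ q) := isPthRoot_comp hp _ _ hr₂' hq
  refine ⟨W.ι ''ᵁ (r₂ ⁻¹ᵁ O), E.left, (W.ι.isoImage _).inv ≫ (r₂ ∣_ O) ≫ q, E.hom ≫ e₁, ?_, ?_, inferInstance, ?_⟩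
  · exact ⟨⟨z, hzW⟩, by
      show e₂ (r₂ ⟨z, hzW⟩) ∈ V
      rw [← Scheme.Hom.comp_apply, hre₂]
      exact hV, rfl⟩
  · exact isPthRoot_of_isPullback (k := 𝟙 E.left) (g' := (W.ι.isoImage _).inv)
      (IsPullback.of_horiz_isIso ⟨by simp⟩) hcomp
  · have h1 : q ≫ E.hom = (e₂ ∣_ V) ≫ r₁ := by
      simp only [q, Category.assoc, pullback.condition]
      rw [← Category.assoc, hφw]
    simp only [Category.assoc]
    rw [reassoc_of% h1, hre₁, morphismRestrict_ι_assoc, morphismRestrict_ι_assoc, reassoc_of% hre₂,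
      Scheme.Hom.isoImage_inv_ι_assoc]

end Groth.Agent.Quiet5
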