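import Groth.Agent.Quiet5.BC

/-! The pushout square of a root extraction along a ring map. -/

universe u

open CategoryTheory CategoryTheory.Limits AlgebraicGeometry Polynomial

namespace Groth.Agent.Quiet5

open Quiet in
theorem exists_rootSquare (p : ℕ) {A A' : CommRingCat.{u}} (g : A ⟶ A') (a : A) :
    ∃ g1 : CommRingCat.of (RootRing p A a) ⟶ CommRingCat.of (RootRing p A' (g a)),
      IsPushout (CommRingCat.ofHom (AdjoinRoot.of (X ^ p - C a : A[X]))) g g1
        (CommRingCat.ofHom (AdjoinRoot.of (X ^ p - C (g a) : A'[X]))) ∧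
      (Function.Surjective g.hom → Function.Surjective g1.hom) := by
  let A1 := CommRingCat.of (RootRing p A a)
  let A1' := CommRingCat.of (RootRing p A' (g a))
  let i : A ⟶ A1 := CommRingCat.ofHom (AdjoinRoot.of _)
  let i' : A' ⟶ A1' := CommRingCat.ofHom (AdjoinRoot.of _)
  have hroot' : (AdjoinRoot.root (X ^ p - C (g a) : A'[X])) ^ p = AdjoinRoot.of _ (g a) := by
    have := AdjoinRoot.eval₂_root (X ^ p - C (g a) : A'[X])
    rw [eval₂_sub, eval₂_pow, eval₂_X, eval₂_C] at this
    exact sub_eq_zero.1 this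
  let g1 : A1 ⟶ A1' := CommRingCat.ofHom (AdjoinRoot.lift (g ≫ i').hom (AdjoinRoot.root _) (by
    rw [eval₂_sub, eval₂_pow, eval₂_X, eval₂_C, hroot']
    exact sub_self _))
  have sq : IsPushout i g g1 i' := by
    refine ⟨⟨?_⟩, ⟨PushoutCocone.IsColimit.mk _ (fun s => CommRingCat.ofHom (AdjoinRoot.lift s.inr.hom
      (s.inl.hom (AdjoinRoot.root _)) ?_)) (fun s => ?_) (fun s => ?_) (fun s m hl hr => ?_)⟩⟩
    · refine CommRingCat.hom_ext (RingHom.ext fun x => ?_)
      simp [g1, i, i']
      exact AdjoinRoot.lift_of _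
    · rw [eval₂_sub, eval₂_pow, eval₂_X, eval₂_C, ← map_pow]
      have h1 : (AdjoinRoot.root (X ^ p - C a : A[X])) ^ p = AdjoinRoot.of _ a := by
        have := AdjoinRoot.eval₂_root (X ^ p - C a : A[X])
        rw [eval₂_sub, eval₂_pow, eval₂_X, eval₂_C] at this
        exact sub_eq_zero.1 this
      rw [h1]
      exact sub_eq_zero.2 congr($(s.condition).hom a)
    · refine CommRingCat.hom_ext (AdjoinRoot.ringHom_ext (RingHom.ext fun x => ?_) ?_)
      · simp [g1]
        erw [AdjoinRoot.lift_of]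
        exact congr($(s.condition).hom x).symm
      · simp [g1]
        erw [AdjoinRoot.lift_root]
    · refine CommRingCat.hom_ext (RingHom.ext fun x => ?_)
      simp [i']
      exact AdjoinRoot.lift_of _
    · refine CommRingCat.hom_ext (AdjoinRoot.ringHom_ext (RingHom.ext fun x => ?_) ?_)
      · simp
        exact congr($(hr).hom x)
      · have h2 := congr($(hl).hom (AdjoinRoot.root _))
        simp [g1] at h2 ⊢
        erw [AdjoinRoot.lift_root] at h2
        exact h2
  have hg1 : Function.Surjective g.hom → Function.Surjective g1.hom := by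
    intro hg x
    obtain ⟨P, rfl⟩ := AdjoinRoot.mk_surjective (g := (X ^ p - C (g a) : A'[X])) x
    obtain ⟨Q, rfl⟩ := Polynomial.map_surjective g.hom hg P
    refine ⟨AdjoinRoot.mk _ Q, ?_⟩
    simp only [g1, CommRingCat.hom_ofHom]
    erw [AdjoinRoot.lift_mk]
    rw [← AdjoinRoot.aeval_eq, aeval_def, eval₂_map]
    rfl
  exact ⟨g1, sq, hg1⟩

end Groth.Agent.Quiet5
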