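import Groth.Agent.Quiet5.Comp
import Groth.Agent.Quiet5.RootSquare

/-!
# Lifting quasi-étale morphisms along surjective closed immersions
-/

set_option backward.isDefEq.respectTransparency false
set_option backward.isDefEq.respectTransparency.types false

universe u

open CategoryTheory CategoryTheory.Limits AlgebraicGeometry Polynomial

namespace Groth.Agent.Quiet5

open Quiet in
theorem isPthRoot_SpecMap {p n : ℕ} {A B : CommRingCat.{u}} (f : A ⟶ B)
    (h : letI := f.hom.toAlgebra; IsRootTower p n A B) : IsPthRoot p (Spec.map f) := by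
  intro x
  have hA : IsAffineOpen (⊤ : (Spec A).Opens) := isAffineOpen_top _
  have hB : IsAffineOpen ((Spec.map f) ⁻¹ᵁ (⊤ : (Spec A).Opens)) := isAffineOpen_top (Spec B)
  refine ⟨⟨⊤, hA⟩, trivial, hB, n, ?_⟩
  refine isRootTower_baseChange p n f (Scheme.ΓSpecIso A).inv (Scheme.ΓSpecIso B).inv _ ?_ h
  exact IsPushout.of_vert_isIso ⟨(Scheme.ΓSpecIso_inv_naturality f)⟩

open Quiet in
/-- Root towers lift along surjective ring maps. -/
theorem exists_isRootTower_lift (p : ℕ) : ∀ (n : ℕ) {A A' B' : CommRingCat.{u}} (g : A ⟶ A') (f' : A' ⟶ B'),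
    Function.Surjective g.hom → (letI := f'.hom.toAlgebra; IsRootTower p n A' B') →
    ∃ (B : CommRingCat.{u}) (f : A ⟶ B) (g' : B ⟶ B'), IsPushout f g g' f' ∧
      (letI := f.hom.toAlgebra; IsRootTower p n A B)
  | 0, A, A', B', g, f', _, hT => by
    haveI : IsIso f' := by
      letI := f'.hom.toAlgebra
      obtain ⟨e⟩ := hT
      rw [show f' = (RingEquiv.toCommRingCatIso e.symm.toRingEquiv).hom from
        CommRingCat.hom_ext (RingHom.ext fun a => (e.symm.commutes a).symm)]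
      infer_instance
    refine ⟨A, 𝟙 A, g ≫ f', IsPushout.of_horiz_isIso ⟨by simp⟩, ?_⟩
    letI := (𝟙 A : A ⟶ A).hom.toAlgebra
    exact ⟨{ RingEquiv.refl A with commutes' := fun _ => rfl }⟩
  | n + 1, A, A', B', g, f', hg, hT => by
    letI := f'.hom.toAlgebra
    obtain ⟨a', alg, htow, hn⟩ := hT
    obtain ⟨a, rfl⟩ := hg a'
    let A1 := CommRingCat.of (RootRing p A a)
    let A1' := CommRingCat.of (RootRing p A' (g a))
    let i : A ⟶ A1 := CommRingCat.ofHom (AdjoinRoot.of _)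
    let i' : A' ⟶ A1' := CommRingCat.ofHom (AdjoinRoot.of _)
    obtain ⟨g1, sq, hg1'⟩ := exists_rootSquare p g a
    have hg1 := hg1' hg
    let j' : A1' ⟶ B' := CommRingCat.ofHom (algebraMap (RootRing p A' (g a)) B')
    have hi'j' : i' ≫ j' = f' := by
      ext x
      exact (IsScalarTower.algebraMap_apply A' (RootRing p A' (g a)) B' x).symm
    have hj' : (letI := j'.hom.toAlgebra; IsRootTower p n A1' B') := by
      have e : alg = j'.hom.toAlgebra := Algebra.algebra_ext _ _ fun _ => rfl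
      rw [← e]
      exact hn
    obtain ⟨B, j, g', sq2, hj⟩ := exists_isRootTower_lift p n g1 j' hg1 hj'
    refine ⟨B, i ≫ j, g', by rw [← hi'j']; exact sq.paste_horiz sq2, ?_⟩
    letI := (i ≫ j).hom.toAlgebra
    refine ⟨a, j.hom.toAlgebra, ?_, hj⟩
    letI := j.hom.toAlgebra
    exact IsScalarTower.of_algebraMap_eq fun x => rfl

variable {T U U' : Scheme.{u}}

theorem exists_isQuiet_lift {p : ℕ} (hp : p.Prime) [FrobSch.IsCharP T p] (i : U ⟶ T) [IsClosedImmersion i]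
    [Surjective i] (f' : U' ⟶ U) (hf' : Quiet.IsQuiet p f') (u : U') :
    ∃ (V : U'.Opens) (T' : Scheme.{u}) (q : T' ⟶ T) (j : (V : Scheme.{u}) ⟶ T'),
      u ∈ V ∧ Quiet.IsQuiet p q ∧ IsPullback j (V.ι ≫ f') q i := by
  obtain ⟨V, Y', r, e, huV, hr, he, hre⟩ := hf' u
  haveI : UniversallyInjective i := inferInstance
  haveI : IsIntegralHom i := inferInstance
  haveI := AlgSpLib.UHDesc.bc_isEquivalence i
  let O' : U.Etale := MorphismProperty.Over.mk ⊤ e he
  let E := (EtCoh.bc i).objPreimage O'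
  let φ := (EtCoh.bc i).objObjPreimageIso O'
  haveI : Etale E.hom := E.prop
  have hφw : φ.inv.left ≫ pullback.snd E.hom i = e := MorphismProperty.Over.w φ.inv
  haveI : IsIso φ.inv.left :=
    ((MorphismProperty.Over.forget EtCoh.etaleMP ⊤ U ⋙ Over.forget _).mapIso φ.symm).isIso_hom
  let i' : Y' ⟶ E.left := φ.inv.left ≫ pullback.fst E.hom i
  have sqE : IsPullback i' e E.hom i :=
    (IsPullback.of_hasPullback E.hom i).of_iso (asIso φ.inv.left).symm (Iso.refl _) (Iso.refl _)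
      (Iso.refl _) (by simp [i']) (by simp [← hφw]) (by simp) (by simp)
  haveI : IsClosedImmersion i' := MorphismProperty.of_isPullback sqE.flip (inferInstance : IsClosedImmersion i)
  obtain ⟨W, hW, hW', n, hT⟩ := hr (r ⟨u, huV⟩)
  -- an affine open of `E` whose preimage lies in `W`
  have hopen : IsOpen (i'.base '' (W.1 : Set Y')ᶜ)ᶜ :=
    (i'.isClosedMap _ W.1.isOpen.isClosed_compl).isOpen_compl
  have hmem : i' (r ⟨u, huV⟩) ∈ (i'.base '' (W.1 : Set Y')ᶜ)ᶜ := fun ⟨y, hy, ey⟩ => hy (by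
    rw [i'.isClosedEmbedding.injective ey]
    exact hW)
  obtain ⟨O, hO, hxO, hOT⟩ := exists_isAffineOpen_mem_and_subset (U := ⟨_, hopen⟩) hmem
  have hO' : IsAffineOpen (i' ⁻¹ᵁ O) := hO.preimage i'
  obtain ⟨hO'', hTO⟩ := tower_of_le W.2 hW' hT hO' fun y hy => by
    by_contra hyW
    exact hOT hy ⟨y, hyW, rfl⟩
  obtain ⟨B, fB, gB, sqB, hB⟩ := exists_isRootTower_lift p n (i'.app O) (r.app (i' ⁻¹ᵁ O))
    (Scheme.Hom.app_surjective i' O hO) hTO
  -- the pullback square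
  have h1 : IsPullback (hO''.isoSpec.hom ≫ Spec.map gB) (r ∣_ (i' ⁻¹ᵁ O)) (Spec.map fB ≫ hO.isoSpec.inv)
      (i' ∣_ O) := by
    refine (isPullback_SpecMap_of_isPushout fB (i'.app O) gB (r.app (i' ⁻¹ᵁ O)) sqB).of_iso
      hO''.isoSpec.symm (Iso.refl _) hO'.isoSpec.symm hO.isoSpec.symm (by simp) ?_ (by simp) ?_
    · rw [Iso.symm_hom, Iso.symm_hom, ← cancel_mono (i' ⁻¹ᵁ O).ι, Category.assoc, Category.assoc,
        hO'.isoSpec_inv_ι, morphismRestrict_ι, hO''.isoSpec_inv_ι_assoc, Scheme.Hom.app_eq_appLE,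
        hO'.SpecMap_appLE_fromSpec r hO'']
    · rw [Iso.symm_hom, Iso.symm_hom, ← cancel_mono O.ι, Category.assoc, Category.assoc,
        hO.isoSpec_inv_ι, morphismRestrict_ι, hO'.isoSpec_inv_ι_assoc, Scheme.Hom.app_eq_appLE,
        hO.SpecMap_appLE_fromSpec i' hO']
  have h2 := h1.paste_vert ((isPullback_morphismRestrict i' O).paste_vert sqE)
  refine ⟨V.ι ''ᵁ (r ⁻¹ᵁ (i' ⁻¹ᵁ O)), Spec B, (Spec.map fB ≫ hO.isoSpec.inv) ≫ O.ι ≫ E.hom,
    (V.ι.isoImage _).inv ≫ hO''.isoSpec.hom ≫ Spec.map gB, ⟨⟨u, huV⟩, hxO, rfl⟩, ?_, ?_⟩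
  · intro t
    refine ⟨⊤, O, (⊤ : (Spec B).Opens).ι ≫ Spec.map fB ≫ hO.isoSpec.inv, O.ι ≫ E.hom, trivial, ?_, inferInstance, by simp⟩
    have hf : Quiet.IsPthRoot p (Spec.map fB) := isPthRoot_SpecMap fB hB
    haveI : IsIso (⊤ : (Spec B).Opens).ι := (Scheme.topIso (Spec B)).isIso_hom
    refine isPthRoot_of_isPullback (k := hO.isoSpec.hom) (g' := (⊤ : (Spec B).Opens).ι) ?_ hf
    exact IsPullback.of_horiz_isIso ⟨by simp⟩
  · refine h2.of_iso (V.ι.isoImage _) (Iso.refl _) (Iso.refl _) (Iso.refl _) (by simp) ?_ (by simp) (by simp)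
    simp only [Iso.refl_hom, Category.comp_id]
    rw [Scheme.Hom.isoImage_hom_ι_assoc, morphismRestrict_ι_assoc, hre]

end Groth.Agent.Quiet5
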