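import Groth.Agent.Synt29.SmoothRel
import Groth.Agent.Synt29.Comp
import Groth.Agent.Synt29.Mor
import Groth.Agent.S9699
import Groth.Prelude.Def_W4c2gaugesfzipsQuiet
import Mathlib.RingTheory.Smooth.Basic

/-! # Root extractions are syntomic -/

universe u

open CategoryTheory AlgebraicGeometry Polynomial

namespace Groth.Agent.Quiet5

open Groth.Agent Groth.Agent.Synt29

theorem isSyntomic_root (p : ℕ) (hp : p ≠ 0) (A : Type u) [CommRing A] (a : A) :
    Synt.IsSyntomic A (Quiet.RootRing p A a) := by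
  have hm : (X ^ p - C a : A[X]).Monic := monic_X_pow_sub_C a hp
  haveI : Module.Free A (Quiet.RootRing p A a) := hm.free_adjoinRoot
  haveI : Algebra.Smooth A (MvPolynomial PUnit.{u+1} A) := ⟨inferInstance, inferInstance⟩
  haveI : Algebra.Smooth A A[X] := Algebra.Smooth.of_equiv (MvPolynomial.pUnitAlgEquiv.{u, u} A)
  let ψ : A[X] →ₐ[A] Quiet.RootRing p A a := AdjoinRoot.mkₐ _
  refine isSyntomic_of_smooth_rel ψ AdjoinRoot.mk_surjective (fun _ : Fin 1 => (X ^ p - C a : A[X]))
    (fun u hu => ?_) ?_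
  · have h0 : u 0 = 0 := by
      have : u 0 * (X ^ p - C a) = 0 := by simpa [DefGlueLib.dot, Fintype.linearCombination_apply, mul_comm] using hu
      exact hm.isRegular.right (this.trans (zero_mul _).symm)
    rw [show u = 0 from funext fun i => by rw [Subsingleton.elim i 0]; exact h0]
    exact zero_mem _
  · rw [Set.range_const]
    ext x
    rw [Ideal.mem_span_singleton, RingHom.mem_ker]
    exact AdjoinRoot.mk_eq_zero.symm

theorem isSyntomic_refl (A : Type u) [CommRing A] : Synt.IsSyntomic A A :=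
  isSyntomic_of_smooth_rel (AlgHom.id A A) Function.surjective_id (fun i : Fin 0 => i.elim0)
    (fun u _ => by rw [show u = 0 from funext fun i => i.elim0]; exact zero_mem _) (by
      ext x
      simp)

theorem isSyntomic_of_isRootTower (p : ℕ) (hp : p ≠ 0) : ∀ (n : ℕ) (A B : Type u) [CommRing A] [CommRing B]
    [Algebra A B], Quiet.IsRootTower p n A B → Synt.IsSyntomic A B
  | 0, A, B, _, _, _, h => by
    obtain ⟨e⟩ := h
    exact isSyntomic_of_algEquiv e.symm (isSyntomic_refl A)
  | n + 1, A, B, _, _, _, h => by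
    obtain ⟨a, _, _, h⟩ := h
    exact isSyntomic_trans (isSyntomic_root p hp A a) (isSyntomic_of_isRootTower p hp n _ _ h)

theorem isSyntomicMor_of_isPthRoot (p : ℕ) (hp : p ≠ 0) {X Y : Scheme.{u}} (f : Y ⟶ X) (h : Quiet.IsPthRoot p f) :
    Synt.IsSyntomicMor f := fun y => by
  obtain ⟨U, hy, hU', n, hn⟩ := h (f y)
  refine ⟨⟨_, hU'⟩, U, le_rfl, hy, ?_⟩
  rw [← Scheme.Hom.app_eq_appLE]
  letI := (f.app U.1).hom.toAlgebra
  exact isSyntomic_of_isRootTower p hp n _ _ hn

theorem isSyntomicMor_comp {X Y Z : Scheme.{u}} {f : X ⟶ Y} {g : Y ⟶ Z} (hf : Synt.IsSyntomicMor f)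
    (hg : Synt.IsSyntomicMor g) : Synt.IsSyntomicMor (f ≫ g) := by
  have := hasRingHomProperty_isSyntomicMor.{u}
  have h : RingHom.StableUnderComposition Synt29.RingHomIsSyntomic.{u} := by
    intro R S T _ _ _ f g hf hg
    algebraize [f, g, g.comp f]
    rw [← RingHom.algebraMap_toAlgebra f] at hf
    rw [← RingHom.algebraMap_toAlgebra g] at hg
    rw [← RingHom.algebraMap_toAlgebra (g.comp f)]
    exact ringHomIsSyntomic_algebraMap.2
      (isSyntomic_trans (ringHomIsSyntomic_algebraMap.1 hf) (ringHomIsSyntomic_algebraMap.1 hg))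
  exact (HasRingHomProperty.stableUnderComposition
    (P := (fun {X Y : Scheme.{u}} (f : X ⟶ Y) => Synt.IsSyntomicMor f : MorphismProperty Scheme.{u})) h).comp_mem f g hf hg

theorem isSyntomicMor_of_isQuiet (p : ℕ) (hp : p ≠ 0) {X Y : Scheme.{u}} (f : Y ⟶ X) (hf : Quiet.IsQuiet p f) :
    Synt.IsSyntomicMor f := by
  have := hasRingHomProperty_isSyntomicMor.{u}
  choose V Y' r e hy hr he hre using hf
  have h := IsZariskiLocalAtSource.iff_of_iSup_eq_top
    (P := (fun {X Y : Scheme.{u}} (f : X ⟶ Y) => Synt.IsSyntomicMor f : MorphismProperty Scheme.{u})) (f := f) V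
    (top_le_iff.1 fun y _ => TopologicalSpace.Opens.mem_iSup.2 ⟨y, hy y⟩)
  refine h.2 fun y => ?_
  show Synt.IsSyntomicMor ((V y).ι ≫ f)
  rw [← hre y]
  haveI := he y
  exact isSyntomicMor_comp (isSyntomicMor_of_isPthRoot p hp _ (hr y)) (S9699.result (e y))

end Groth.Agent.Quiet5
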