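import Groth.Agent.Quiet5.Lift
import Groth.Agent.Quiet5.Syntomic
import Mathlib.RingTheory.Etale.Basic
import Mathlib.RingTheory.RingHom.Etale
import Mathlib.RingTheory.RingHom.FaithfullyFlat
import Mathlib.RingTheory.RingHom.LocallyStandardSmooth
import Mathlib.RingTheory.Unramified.Finite

/-!
# Frobenius of smooth algebras over perfect fields is an extraction of `p`-th roots
-/

set_option autoImplicit false
set_option linter.style.haveILetI false
set_option linter.unusedVariables false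

universe u

open CategoryTheory CategoryTheory.Limits AlgebraicGeometry Polynomial TensorProduct

namespace Groth.Agent.Quiet5

variable {p : ℕ}

/-- If the `p`-th powers of `C` come from `D`, then `C ⊗_D C → C` is injective for unramified `D → C`. -/
theorem tmul_eq_of_unramified (hp : p.Prime) {D C : Type u} [CommRing D] [CommRing C] [Algebra D C]
    [Algebra.FormallyUnramified D C] [Algebra.FiniteType D C] (hp0 : (p : C) = 0)
    (hD : ∀ c : C, ∃ d, algebraMap D C d = c ^ p) (c : C) :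
    c ⊗ₜ[D] (1 : C) = 1 ⊗ₜ[D] c := by
  have hI0 : KaehlerDifferential.ideal D C ≤ nilradical (C ⊗[D] C) := by
    rw [← KaehlerDifferential.span_range_eq_ideal, Ideal.span_le]
    rintro _ ⟨c, rfl⟩
    refine ⟨p, ?_⟩
    obtain ⟨d, hd⟩ := hD c
    have h2 : (p : C ⊗[D] C) = 0 := by
      have : (p : C ⊗[D] C) = algebraMap C (C ⊗[D] C) (p : C) := (map_natCast _ p).symm
      rw [this, hp0, map_zero]
    obtain ⟨r, hr⟩ := exists_add_pow_prime_eq hp ((1 : C) ⊗ₜ[D] c - c ⊗ₜ[D] (1 : C)) (c ⊗ₜ[D] (1 : C))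
    rw [sub_add_cancel, Algebra.TensorProduct.tmul_pow, Algebra.TensorProduct.tmul_pow, one_pow, ← hd, h2] at hr
    have h3 : (1 : C) ⊗ₜ[D] algebraMap D C d = algebraMap D C d ⊗ₜ[D] (1 : C) := by
      rw [Algebra.algebraMap_eq_smul_one, smul_tmul]
    rw [h3] at hr
    simpa using hr
  have hfg : (KaehlerDifferential.ideal D C).FG := KaehlerDifferential.ideal_fg D C
  have hidem : IsIdempotentElem (KaehlerDifferential.ideal D C) :=
    (Ideal.cotangent_subsingleton_iff _).1 (inferInstance : Subsingleton (Ω[C⁄D]))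
  obtain ⟨e, he, hIe⟩ := (Ideal.isIdempotentElem_iff_of_fg _ hfg).1 hidem
  have he0 : e = 0 := he.eq_zero_of_isNilpotent (hI0 (by rw [hIe]; exact Submodule.mem_span_singleton_self e))
  have : (1 : C) ⊗ₜ[D] c - c ⊗ₜ[D] (1 : C) ∈ KaehlerDifferential.ideal D C := KaehlerDifferential.one_smul_sub_smul_one_mem_ideal D c
  rw [hIe, he0] at this
  simp only [Ideal.submodule_span_eq, Ideal.span_singleton_zero, Submodule.mem_bot, sub_eq_zero] at this
  exact this.symm

theorem bijective_algebraMap_of_unramified (hp : p.Prime) {D C : Type u} [CommRing D] [CommRing C] [Algebra D C]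
    [Algebra.FormallyUnramified D C] [Algebra.FiniteType D C] [Module.FaithfullyFlat D C] (hp0 : (p : C) = 0)
    (hD : ∀ c : C, ∃ d, algebraMap D C d = c ^ p) :
    Function.Bijective (algebraMap D C) := by
  refine ⟨FaithfulSMul.algebraMap_injective D C, ?_⟩
  have hs : Function.Surjective (LinearMap.lTensor C (Algebra.linearMap D C)) := by
    intro z
    induction z using TensorProduct.induction_on with
    | zero => exact ⟨0, map_zero _⟩
    | add a b ha hb =>
      obtain ⟨a, rfl⟩ := ha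
      obtain ⟨b, rfl⟩ := hb
      exact ⟨a + b, map_add _ _ _⟩
    | tmul a b =>
      refine ⟨(a * b) ⊗ₜ[D] (1 : D), ?_⟩
      rw [LinearMap.lTensor_tmul]
      have h := congrArg (fun t => (a ⊗ₜ[D] (1 : C)) * t) (tmul_eq_of_unramified hp hp0 hD b)
      simpa [Algebra.TensorProduct.tmul_mul_tmul] using h
  exact (Module.FaithfullyFlat.lTensor_surjective_iff_surjective D C (Algebra.linearMap D C)).1 hs

theorem comap_eq_of_pow {D : Type u} [CommRing D] (hp : p ≠ 0) (F : D →+* D) (hF : ∀ x, F x = x ^ p)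
    (q : PrimeSpectrum D) : PrimeSpectrum.comap F q = q := by
  refine PrimeSpectrum.ext (Ideal.ext fun x => ?_)
  rw [PrimeSpectrum.comap_asIdeal, Ideal.mem_comap, hF]
  exact q.isPrime.pow_mem_iff_mem p (Nat.pos_of_ne_zero hp)

/-- The Frobenius square of an étale ring map is a pushout. -/
theorem isPushout_frobenius_of_etale (hp : p.Prime) {P C : CommRingCat.{u}} (g : P ⟶ C) (hg : g.hom.Etale)
    (hp0 : (p : P) = 0) (FP : P ⟶ P) (hFP : ∀ x, FP.hom x = x ^ p) (FC : C ⟶ C) (hFC : ∀ x, FC.hom x = x ^ p) :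
    IsPushout FP g g FC := by
  have h : IsPushout FP g (pushout.inl FP g) (pushout.inr FP g) := IsPushout.of_hasPushout FP g
  generalize hinl : pushout.inl FP g = inl at h
  generalize hinr : pushout.inr FP g = inr at h
  have hw : FP ≫ g = g ≫ FC := by
    ext x
    simp [hFP, hFC, map_pow]
  let φ : pushout FP g ⟶ C := h.desc g FC hw
  have hlφ : inl ≫ φ = g := h.inl_desc _ _ _
  have hrφ : inr ≫ φ = FC := h.inr_desc _ _ _
  let D := pushout FP g
  have hD0 : (p : D) = 0 := by rw [← map_natCast inl.hom, hp0, map_zero]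
  have hC0 : (p : C) = 0 := by rw [← map_natCast g.hom, hp0, map_zero]
  haveI := Fact.mk hp
  let FD : D ⟶ D := CommRingCat.ofHom
    { toFun := fun x => x ^ p
      map_one' := one_pow p
      map_mul' := fun x y => mul_pow x y p
      map_zero' := zero_pow hp.ne_zero
      map_add' := fun x y => by
        obtain ⟨r, hr⟩ := exists_add_pow_prime_eq hp x y
        simpa [hD0] using hr }
  have hcomp : φ ≫ inr = FD := by
    apply h.hom_ext
    · rw [reassoc_of% hlφ, ← h.w]
      ext x
      simp [FD, hFP, map_pow]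
    · rw [reassoc_of% hrφ]
      ext x
      simp [FD, hFC, map_pow]
  have hl : inl.hom.Etale :=
    hinl ▸ RingHom.Etale.isStableUnderBaseChange.pushout_inl RingHom.Etale.respectsIso FP g hg
  have hφ : φ.hom.Etale := by
    algebraize [inl.hom, φ.hom, g.hom]
    haveI : IsScalarTower P D C := IsScalarTower.of_algebraMap_eq fun x => congr($(hlφ).hom x).symm
    exact Algebra.Etale.of_restrictScalars (R := P) (A := D) (B := C)
  algebraize [φ.hom]
  haveI : Algebra.Etale D C := hφ
  haveI : Module.Flat D C := inferInstance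
  haveI : Module.FaithfullyFlat D C := by
    refine Module.FaithfullyFlat.of_comap_surjective fun q => ⟨PrimeSpectrum.comap inr.hom q, ?_⟩
    rw [← PrimeSpectrum.comap_comp_apply]
    exact comap_eq_of_pow hp.ne_zero (inr.hom.comp φ.hom) (fun x => congr($(hcomp).hom x)) q
  haveI : IsIso φ := (ConcreteCategory.isIso_iff_bijective φ).2
    (bijective_algebraMap_of_unramified hp hC0 fun c => ⟨inr.hom c, (congr($(hrφ).hom c)).trans (hFC c)⟩)
  exact h.of_iso (Iso.refl _) (Iso.refl _) (Iso.refl _) (asIso φ) (by simp) (by simp) (by simp [hlφ]) (by simp [hrφ])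

theorem exists_tower_of_iso {A A' : CommRingCat.{u}} (e : A ≅ A') (F : A ⟶ A) (F' : A' ⟶ A')
    (hF : ∀ x, F.hom x = x ^ p) (hF' : ∀ x, F'.hom x = x ^ p) {n : ℕ}
    (h : letI := F.hom.toAlgebra; Quiet.IsRootTower p n A A) :
    letI := F'.hom.toAlgebra; Quiet.IsRootTower p n A' A' :=
  isRootTower_baseChange p n F e.hom e.hom F' (IsPushout.of_vert_isIso ⟨by ext x; simp [hF, hF', map_pow]⟩) h

theorem isPushout_polynomial_map {R S : CommRingCat.{u}} (f : R ⟶ S) :
    IsPushout f (CommRingCat.ofHom (Polynomial.C : R →+* R[X])) (CommRingCat.ofHom (Polynomial.C : S →+* S[X]))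
      (CommRingCat.ofHom (Polynomial.mapRingHom f.hom)) := by
  refine ⟨⟨?_⟩, ⟨PushoutCocone.IsColimit.mk _
    (fun s => CommRingCat.ofHom (Polynomial.eval₂RingHom s.inl.hom (s.inr.hom X))) (fun s => ?_) (fun s => ?_)
    (fun s m hl hr => ?_)⟩⟩
  · ext x
    simp
  · ext x
    simp
  · refine CommRingCat.hom_ext (Polynomial.ringHom_ext (fun a => ?_) ?_)
    · simpa using congr($(s.condition).hom a)
    · simp
  · refine CommRingCat.hom_ext (Polynomial.ringHom_ext (fun a => ?_) ?_)
    · simpa using congr($(hl).hom a)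
    · simpa using congr($(hr).hom X)

theorem tower_zero {A B : Type u} [CommRing A] [CommRing B] (f : A →+* B) (h : Function.Bijective f) :
    letI := f.toAlgebra; Quiet.IsRootTower p 0 A B := by
  letI := f.toAlgebra
  exact ⟨(AlgEquiv.ofBijective (Algebra.ofId A B) h).symm⟩

theorem tower_one {A B : Type u} [CommRing A] [CommRing B] (f : A →+* B) (a : A) (g : Quiet.RootRing p A a →+* B)
    (hg : Function.Bijective g) (hfg : ∀ x, g (AdjoinRoot.of _ x) = f x) :
    letI := f.toAlgebra; Quiet.IsRootTower p 1 A B := by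
  letI := f.toAlgebra
  letI := g.toAlgebra
  exact ⟨a, g.toAlgebra, IsScalarTower.of_algebraMap_eq fun x => (hfg x).symm, tower_zero g hg⟩

/-- The Frobenius tower of a polynomial ring in one more variable. -/
theorem exists_tower_polynomial (hp : p.Prime) {R : CommRingCat.{u}} (FR : R ⟶ R) (hFR : ∀ x, FR.hom x = x ^ p)
    (F : CommRingCat.of R[X] ⟶ CommRingCat.of R[X]) (hF : ∀ x, F.hom x = x ^ p) {n : ℕ}
    (h : letI := FR.hom.toAlgebra; Quiet.IsRootTower p n R R) :
    ∃ k, letI := F.hom.toAlgebra; Quiet.IsRootTower p k (CommRingCat.of R[X]) (CommRingCat.of R[X]) := by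
  let M : CommRingCat.of R[X] ⟶ CommRingCat.of R[X] := CommRingCat.ofHom (Polynomial.mapRingHom FR.hom)
  let E : CommRingCat.of R[X] ⟶ CommRingCat.of R[X] :=
    CommRingCat.ofHom (Polynomial.eval₂RingHom Polynomial.C ((X : R[X]) ^ p))
  have hME : M ≫ E = F := by
    refine CommRingCat.hom_ext (Polynomial.ringHom_ext (fun a => ?_) ?_)
    · simp [M, E, hF, hFR, ← map_pow]
    · simp [M, E, hF]
  have hM := isRootTower_baseChange p n _ _ _ M (isPushout_polynomial_map FR) h
  have hE : (letI := E.hom.toAlgebra; Quiet.IsRootTower p 1 (CommRingCat.of R[X]) (CommRingCat.of R[X])) := by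
    let e : R[X] →+* R[X] := Polynomial.eval₂RingHom Polynomial.C ((X : R[X]) ^ p)
    let g : Quiet.RootRing p R[X] (X : R[X]) →+* R[X] := AdjoinRoot.lift e (X : R[X]) (by simp [e])
    let g' : R[X] →+* Quiet.RootRing p R[X] (X : R[X]) :=
      Polynomial.eval₂RingHom ((AdjoinRoot.of _).comp Polynomial.C) (AdjoinRoot.root _)
    have hroot : (AdjoinRoot.root (X ^ p - Polynomial.C (X : R[X]) : (R[X])[X])) ^ p = AdjoinRoot.of _ (X : R[X]) := by
      have := AdjoinRoot.eval₂_root (X ^ p - Polynomial.C (X : R[X]) : (R[X])[X])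
      rw [eval₂_sub, eval₂_pow, eval₂_X, eval₂_C] at this
      exact sub_eq_zero.1 this
    have h1 : g.comp g' = RingHom.id _ := by
      refine Polynomial.ringHom_ext (fun a => ?_) ?_
      · simp [g, g', e]
      · simp [g, g']
    have h2 : g'.comp g = RingHom.id _ := by
      refine AdjoinRoot.ringHom_ext (Polynomial.ringHom_ext (fun a => ?_) ?_) ?_
      · simp [g, g', e]
      · simp [g, g', e, hroot]
      · simp [g, g']
    exact tower_one E.hom (X : R[X]) g (RingEquiv.ofRingHom g g' h1 h2).bijective fun x => AdjoinRoot.lift_of _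
  rw [← hME]
  exact isRootTower_comp p n 1 M E hM hE

theorem exists_tower_mvPolynomial (hp : p.Prime) {k : Type u} [CommRing k] (hp0 : (p : k) = 0)
    (hk : Function.Bijective fun x : k => x ^ p) : ∀ (n : ℕ)
    (F : CommRingCat.of (MvPolynomial (Fin n) k) ⟶ CommRingCat.of (MvPolynomial (Fin n) k))
    (_ : ∀ x, F.hom x = x ^ p),
    ∃ m, letI := F.hom.toAlgebra; Quiet.IsRootTower p m (CommRingCat.of (MvPolynomial (Fin n) k))
      (CommRingCat.of (MvPolynomial (Fin n) k))
  | 0, F, hF => by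
    refine ⟨0, tower_zero F.hom ?_⟩
    let e := MvPolynomial.isEmptyAlgEquiv k (Fin 0)
    rw [show ⇑F.hom = e.symm ∘ (fun x : k => x ^ p) ∘ e from funext fun x => by simp [hF, map_pow]]
    exact e.symm.bijective.comp (hk.comp e.bijective)
  | n + 1, F, hF => by
    haveI := Fact.mk hp
    have hR0 : (p : MvPolynomial (Fin n) k) = 0 := by
      rw [← map_natCast (MvPolynomial.C : k →+* MvPolynomial (Fin n) k), hp0, map_zero]
    have hX0 : (p : (MvPolynomial (Fin n) k)[X]) = 0 := by
      rw [← map_natCast (Polynomial.C : _ →+* (MvPolynomial (Fin n) k)[X]), hR0, map_zero]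
    let fr : ∀ {R : Type u} [CommRing R] (h : (p : R) = 0), R →+* R := fun {R} _ h =>
      { toFun := fun x => x ^ p
        map_one' := one_pow p
        map_mul' := fun x y => mul_pow x y p
        map_zero' := zero_pow hp.ne_zero
        map_add' := fun x y => by
          obtain ⟨r, hr⟩ := exists_add_pow_prime_eq hp x y
          simpa [h] using hr }
    obtain ⟨m, hm⟩ := exists_tower_mvPolynomial hp hp0 hk n (CommRingCat.ofHom (fr hR0)) fun x => rfl
    obtain ⟨m', hm'⟩ := exists_tower_polynomial hp (CommRingCat.ofHom (fr hR0)) (fun x => rfl)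
      (CommRingCat.ofHom (fr hX0)) (fun x => rfl) hm
    exact ⟨m', exists_tower_of_iso (MvPolynomial.finSuccEquiv k n).symm.toRingEquiv.toCommRingCatIso
      (CommRingCat.ofHom (fr hX0)) F (fun x => rfl) hF hm'⟩

theorem isIso_appLE_of_eq {X Y : Scheme.{u}} (g : Y ⟶ X) [IsOpenImmersion g] {O : X.Opens} {W : Y.Opens}
    (h : O = g ''ᵁ W) (e : W ≤ g ⁻¹ᵁ O) : IsIso (g.appLE O W e) := by
  subst h
  rw [← Scheme.Hom.appIso_hom']
  infer_instance

/-- Being an extraction of `p`-th roots can be checked near a point of an open subscheme of the target. -/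
theorem exists_good_of_isPullback {X Y X' Y' : Scheme.{u}} {r : Y ⟶ X} {j : X' ⟶ X} [IsOpenImmersion j]
    {r' : Y' ⟶ X'} {g' : Y' ⟶ Y} (H : IsPullback g' r' r j) (hr : Quiet.IsPthRoot p r') (x' : X') :
    ∃ U : X.affineOpens, j x' ∈ U.1 ∧ IsAffineOpen (r ⁻¹ᵁ U.1) ∧
      letI := (r.app U.1).hom.toAlgebra
      ∃ n : ℕ, Quiet.IsRootTower p n Γ(X, U.1) Γ(Y, r ⁻¹ᵁ U.1) := by
  obtain ⟨U', hx', hU', n, hT⟩ := hr x'
  haveI : IsOpenImmersion g' := MorphismProperty.of_isPullback (P := @IsOpenImmersion) H.flip inferInstance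
  have hjU : (j ''ᵁ U'.1 : X.Opens) = j ''ᵁ U'.1 := rfl
  have hpre : r ⁻¹ᵁ (j ''ᵁ U'.1) = g' ''ᵁ (r' ⁻¹ᵁ U'.1) := by
    ext y
    constructor
    · rintro ⟨a, ha, hay⟩
      obtain ⟨y', hy1, hy2⟩ := Scheme.exists_preimage_of_isPullback H y a hay.symm
      exact ⟨y', show r' y' ∈ U'.1 from hy2 ▸ ha, hy1⟩
    · rintro ⟨y', hy', rfl⟩
      exact ⟨r' y', hy', (congr($(H.w) y')).symm⟩
  have hOU : U'.1 ≤ j ⁻¹ᵁ (j ''ᵁ U'.1) := (Scheme.Hom.preimage_image_eq j U'.1).ge
  have hW : r' ⁻¹ᵁ U'.1 = g' ⁻¹ᵁ (r ⁻¹ᵁ (j ''ᵁ U'.1)) ⊓ r' ⁻¹ᵁ U'.1 := by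
    rw [hpre, Scheme.Hom.preimage_image_eq, inf_idem]
  have hA : IsAffineOpen (r ⁻¹ᵁ (j ''ᵁ U'.1)) := hpre ▸ hU'.image_of_isOpenImmersion g'
  refine ⟨⟨_, U'.2.image_of_isOpenImmersion j⟩, ⟨x', hx', rfl⟩, hA, n, ?_⟩
  have hpo := (isIso_pushoutSection_iff H hOU le_rfl hW).mp
    (isIso_pushoutSection_of_isAffineOpen H hOU le_rfl hW (U'.2.image_of_isOpenImmersion j) U'.2 hA)
  have w := hpo.w
  haveI := isIso_appLE_of_eq j (O := j ''ᵁ U'.1) rfl hOU
  haveI := fun e => isIso_appLE_of_eq g' hpre (W := r' ⁻¹ᵁ U'.1) e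
  rw [← Scheme.Hom.app_eq_appLE, ← Scheme.Hom.app_eq_appLE] at hpo
  refine isRootTower_baseChange p n (r'.app U'.1) (inv (j.appLE _ _ hOU)) (inv (g'.appLE _ _ ?_))
    (r.app (j ''ᵁ U'.1)) ?_ hT
  · rw [hpre, Scheme.Hom.preimage_image_eq]
  · exact IsPushout.of_vert_isIso ⟨by rw [IsIso.comp_inv_eq, Category.assoc, IsIso.eq_inv_comp]; exact hpo.w.symm⟩

/-- The Frobenius of a smooth algebra over a perfect ring is an extraction of `p`-th roots. -/
theorem isPthRoot_frobenius_of_smooth (hp : p.Prime) {k A : Type u} [CommRing k] [CommRing A] [Algebra k A]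
    [Algebra.Smooth k A] (hp0 : (p : k) = 0) (hk : Function.Bijective fun x : k => x ^ p)
    (F : A →+* A) (hF : ∀ x, F x = x ^ p) : Quiet.IsPthRoot p (Spec.map (CommRingCat.ofHom F)) := by
  intro x
  obtain ⟨S, hS, hst⟩ := RingHom.Smooth.locally_isStandardSmooth (f := algebraMap k A)
    (RingHom.smooth_algebraMap.2 inferInstance)
  obtain ⟨s, hsS, hsx⟩ : ∃ s ∈ S, s ∉ x.asIdeal := by
    by_contra! hall
    exact x.isPrime.ne_top (top_le_iff.1 (hS ▸ Ideal.span_le.2 hall))
  obtain ⟨n, g, hgC, hg⟩ := (hst s hsS).exists_etale_mvPolynomial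
  haveI := Fact.mk hp
  let P := CommRingCat.of (MvPolynomial (Fin n) k)
  let As := CommRingCat.of (Localization.Away s)
  have hP0 : (p : P) = 0 := by
    rw [← map_natCast (MvPolynomial.C : k →+* MvPolynomial (Fin n) k), hp0, map_zero]
  have hA0 : (p : As) = 0 := by
    rw [← map_natCast g, hP0, map_zero]
  let fr : ∀ {R : Type u} [CommRing R] (h : (p : R) = 0), R →+* R := fun {R} _ h =>
    { toFun := fun x => x ^ p
      map_one' := one_pow p
      map_mul' := fun x y => mul_pow x y p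
      map_zero' := zero_pow hp.ne_zero
      map_add' := fun x y => by
        obtain ⟨r, hr⟩ := exists_add_pow_prime_eq hp x y
        simpa [h] using hr }
  obtain ⟨m, hm⟩ := exists_tower_mvPolynomial hp hp0 hk n (CommRingCat.ofHom (fr hP0)) fun x => rfl
  have hAs := isRootTower_baseChange p m _ _ _ _
    (isPushout_frobenius_of_etale hp (CommRingCat.ofHom g : P ⟶ As) hg hP0
      (CommRingCat.ofHom (fr hP0)) (fun x => rfl) (CommRingCat.ofHom (fr hA0)) (fun x => rfl)) hm
  -- the localisation square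
  haveI : IsLocalization ((Submonoid.powers s).map F) (Localization.Away s) := by
    rw [Submonoid.map_powers, hF]
    refine (IsLocalization.iff_of_le_of_exists_dvd _ (Submonoid.powers s) ?_ ?_).2 inferInstance
    · exact Submonoid.powers_le.2 ⟨p, rfl⟩
    · rintro _ ⟨i, rfl⟩
      exact ⟨(s ^ p) ^ i, ⟨i, rfl⟩, pow_dvd_pow_of_dvd (dvd_pow_self s hp.ne_zero) i⟩
  have sq1 : IsPushout (CommRingCat.ofHom F) (CommRingCat.ofHom (algebraMap A (Localization.Away s)))
      (CommRingCat.ofHom (algebraMap A (Localization.Away s))) (CommRingCat.ofHom (fr hA0)) :=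
    CommRingCat.isPushout_of_isLocalization F (fr hA0) (by ext a; simp [fr, hF, map_pow]) (Submonoid.powers s)
  have H := (isPullback_SpecMap_of_isPushout _ _ _ _ sq1).flip
  obtain ⟨x', hx'⟩ : x ∈ Set.range (PrimeSpectrum.comap (algebraMap A (Localization.Away s))) := by
    rw [PrimeSpectrum.localization_away_comap_range (Localization.Away s) s]
    exact hsx
  haveI : IsOpenImmersion (Spec.map (CommRingCat.ofHom (algebraMap A (Localization.Away s)))) :=
    IsOpenImmersion.of_isLocalization s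
  obtain ⟨U, hxU, hU⟩ := exists_good_of_isPullback H.flip
    (isPthRoot_SpecMap (CommRingCat.ofHom (fr hA0)) hAs) x'
  exact ⟨U, hx' ▸ hxU, hU⟩

/-- Extractions of `p`-th roots whose spectrum map is surjective are faithfully flat. -/
theorem faithfullyFlat_of_isPthRoot (hp : p ≠ 0) {A B : CommRingCat.{u}} (f : A ⟶ B)
    (h : Quiet.IsPthRoot p (Spec.map f)) (hs : Surjective (Spec.map f)) : f.hom.FaithfullyFlat := by
  refine RingHom.FaithfullyFlat.iff_flat_and_comap_surjective.2 ⟨?_, hs.1⟩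
  have := Synt29.hasRingHomProperty_isSyntomicMor.{u}
  have h2 := (HasRingHomProperty.Spec_iff
    (P := (fun {X Y : Scheme.{u}} (f : X ⟶ Y) => Synt.IsSyntomicMor f : MorphismProperty Scheme.{u}))).1
    (isSyntomicMor_of_isPthRoot p hp _ h)
  exact h2.1

theorem surjective_SpecMap_of_pow (hp : p ≠ 0) {A : Type u} [CommRing A] (F : A →+* A) (hF : ∀ x, F x = x ^ p) :
    Surjective (Spec.map (CommRingCat.ofHom F)) :=
  ⟨fun q => ⟨q, comap_eq_of_pow hp F hF q⟩⟩

theorem isPushout_quotientMap {A B : Type u} [CommRing A] [CommRing B] (f : A →+* B) (I : Ideal A) :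
    IsPushout (CommRingCat.ofHom f) (CommRingCat.ofHom (Ideal.Quotient.mk I))
      (CommRingCat.ofHom (Ideal.Quotient.mk (I.map f)))
      (CommRingCat.ofHom (Ideal.quotientMap (I.map f) f Ideal.le_comap_map)) := by
  refine ⟨⟨?_⟩, ⟨PushoutCocone.IsColimit.mk _ (fun s => CommRingCat.ofHom (Ideal.Quotient.lift _ s.inl.hom ?_))
    (fun s => ?_) (fun s => ?_) (fun s m hl hr => ?_)⟩⟩
  · ext x
    simp
  · show I.map f ≤ RingHom.ker s.inl.hom
    rw [Ideal.map_le_iff_le_comap]
    intro x hx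
    show s.inl.hom (f x) = 0
    have := congr($(s.condition).hom x)
    simp only [CommRingCat.hom_comp, CommRingCat.hom_ofHom, RingHom.comp_apply] at this
    rw [this, Ideal.Quotient.eq_zero_iff_mem.2 hx, map_zero]
  · ext x
    simp
  · refine CommRingCat.hom_ext (Ideal.Quotient.ringHom_ext (RingHom.ext fun x => ?_))
    simpa using congr($(s.condition).hom x)
  · refine CommRingCat.hom_ext (Ideal.Quotient.ringHom_ext (RingHom.ext fun x => ?_))
    simpa using congr($(hl).hom x)

end Groth.Agent.Quiet5
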