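import Groth.Agent.TwConstVal5
import Groth.Agent.S2787
import Mathlib.AlgebraicGeometry.ZariskisMainTheorem
import Mathlib.AlgebraicGeometry.Morphisms.FlatMono

/-!
# Twisted constant schemes over an irreducible geometrically unibranch base
-/

set_option autoImplicit false
set_option linter.style.haveILetI false

universe u

open CategoryTheory CategoryTheory.Limits AlgebraicGeometry TopologicalSpace

namespace Groth.Agent.Quiet5.TwGeneric

set_option backward.isDefEq.respectTransparency false
set_option backward.isDefEq.respectTransparency.types false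

variable {S : Scheme.{u}} [IrreducibleSpace S] {Y : Scheme.{u}} (f : Y ⟶ S)

theorem exists_generic_over [Flat f] (x : Y) : ∃ l : Y, f l = genericPoint S ∧ l ⤳ x := by
  obtain ⟨l, hl, h⟩ := Flat.generalizingMap f (genericPoint_specializes (f x))
  exact ⟨l, h, hl⟩

omit [IrreducibleSpace S] in
theorem eq_of_specializes [LocallyQuasiFinite f] {l m : Y} (h : l ⤳ m) (he : f l = f m) : l = m := by
  haveI : DiscreteTopology ↥(f ⁻¹' {f m}) :=
    isDiscrete_iff_discreteTopology.mp (f.isDiscrete_preimage_singleton (f m))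
  have h' : (⟨l, he⟩ : ↥(f ⁻¹' {f m})) ⤳ ⟨m, rfl⟩ := (subtype_specializes_iff _ _).2 h
  exact congrArg Subtype.val h'.eq

theorem closure_mem_irreducibleComponents [LocallyQuasiFinite f] (l : Y) (hl : f l = genericPoint S) :
    closure ({l} : Set Y) ∈ irreducibleComponents Y := by
  refine ⟨isIrreducible_singleton.closure, fun Z hZ hle => ?_⟩
  obtain ⟨z, hz⟩ := QuasiSober.sober hZ.closure isClosed_closure
  have h1 : z ⤳ l := hz.specializes (subset_closure (hle (subset_closure rfl)))
  have h2 : f z = genericPoint S := by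
    refine (genericPoint_specializes (f z)).antisymm ?_ |>.eq.symm
    rw [← hl]
    exact h1.map f.continuous
  obtain rfl := eq_of_specializes f h1 (h2.trans hl.symm)
  rw [hz.def]
  exact subset_closure

theorem existsUnique_generic [Etale f] (hS : ∀ s : S, CAlg2.IsGeomUnibranch (S.presheaf.stalk s)) (x : Y) :
    ∃! l : Y, f l = genericPoint S ∧ x ∈ closure ({l} : Set Y) := by
  haveI := UnibEtale.locallyQuasiFinite_of_formallyUnramified f
  obtain ⟨l, hl, hlx⟩ := exists_generic_over f x
  refine ⟨l, ⟨hl, specializes_iff_mem_closure.1 hlx⟩, fun m ⟨hm, hmx⟩ => ?_⟩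
  obtain ⟨Z, -, hu⟩ := (Groth.Agent.S2787.result f hS).1 x
  have h : closure ({m} : Set Y) = closure {l} :=
    (hu _ ⟨closure_mem_irreducibleComponents f m hm, hmx⟩).trans
      (hu _ ⟨closure_mem_irreducibleComponents f l hl, specializes_iff_mem_closure.1 hlx⟩).symm
  refine eq_of_specializes f ?_ (hm.trans hl.symm)
  exact specializes_iff_mem_closure.2 (h.ge (subset_closure rfl))

theorem isOpen_closure [Etale f] (hS : ∀ s : S, CAlg2.IsGeomUnibranch (S.presheaf.stalk s))
    (l : Y) (hl : f l = genericPoint S) : IsOpen (closure ({l} : Set Y)) := by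
  haveI := UnibEtale.locallyQuasiFinite_of_formallyUnramified f
  exact ((Groth.Agent.S2787.result f hS).2 _ (closure_mem_irreducibleComponents f l hl)).1

omit [IrreducibleSpace S] in
/-- Points of a base change over an affine piece lying over a given point are finitely many. -/
theorem finite_over_point (l : Y) {O : S.Opens} (hO : IsAffineOpen O) (hlO : f l ∈ O) {S' : Scheme.{u}}
    (φ : S' ⟶ S) [Etale φ] {V : S'.Opens} (hV : IsAffineOpen V) (hVO : V ≤ φ ⁻¹ᵁ O) :
    ({z : ↥(pullback f φ) | pullback.fst f φ z = l ∧ pullback.snd f φ z ∈ V}).Finite := by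
  haveI : IsAffine (O : Scheme.{u}) := hO
  haveI : IsAffine (V : Scheme.{u}) := hV
  let a : Spec (Y.residueField l) ⟶ (O : Scheme.{u}) :=
    IsOpenImmersion.lift O.ι (Y.fromSpecResidueField l ≫ f) (by
      rintro _ ⟨z, rfl⟩
      rw [Scheme.Opens.range_ι, Scheme.Hom.comp_apply, Scheme.fromSpecResidueField_apply]
      exact hlO)
  let b : (V : Scheme.{u}) ⟶ (O : Scheme.{u}) := IsOpenImmersion.lift O.ι (V.ι ≫ φ) (by
    rintro _ ⟨z, rfl⟩
    rw [Scheme.Opens.range_ι, Scheme.Hom.comp_apply]
    exact hVO z.2)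
  have ha : a ≫ O.ι = Y.fromSpecResidueField l ≫ f := IsOpenImmersion.lift_fac _ _ _
  have hb : b ≫ O.ι = V.ι ≫ φ := IsOpenImmersion.lift_fac _ _ _
  haveI : Etale (b ≫ O.ι) := hb.symm ▸ inferInstance
  haveI : Etale b := Etale.of_comp b O.ι
  haveI := UnibEtale.locallyQuasiFinite_of_formallyUnramified b
  haveI : IsAffineHom b := isAffineHom_of_isAffine b
  haveI : QuasiCompact (pullback.fst a b) := inferInstance
  haveI : LocallyQuasiFinite (pullback.fst a b) := inferInstance
  haveI : Finite ↥(pullback a b) := by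
    have h := (pullback.fst a b).finite_preimage (Set.finite_univ (α := ↥(Spec (Y.residueField l))))
    rw [Set.preimage_univ] at h
    exact Set.finite_univ_iff.1 h
  let j : pullback a b ⟶ pullback f φ :=
    pullback.lift (pullback.fst a b ≫ Y.fromSpecResidueField l) (pullback.snd a b ≫ V.ι) (by
      rw [Category.assoc, ← ha, pullback.condition_assoc, hb, Category.assoc])
  refine (Set.finite_range j).subset ?_
  rintro z ⟨hz1, hz2⟩
  subst hz1
  let w := (pullback f φ).fromSpecResidueField z
  let v : Spec ((pullback f φ).residueField z) ⟶ (V : Scheme.{u}) :=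
    IsOpenImmersion.lift V.ι (w ≫ pullback.snd f φ) (by
      rintro _ ⟨t, rfl⟩
      rw [Scheme.Opens.range_ι, Scheme.Hom.comp_apply, Scheme.fromSpecResidueField_apply]
      exact hz2)
  have hv : v ≫ V.ι = w ≫ pullback.snd f φ := IsOpenImmersion.lift_fac _ _ _
  let k : Spec ((pullback f φ).residueField z) ⟶ pullback a b :=
    pullback.lift (Spec.map ((pullback.fst f φ).residueFieldMap z)) v (by
      rw [← cancel_mono O.ι, Category.assoc, Category.assoc, ha, hb, ← Category.assoc, ← Category.assoc,
        Scheme.Hom.SpecMap_residueFieldMap_fromSpecResidueField, hv, Category.assoc, Category.assoc,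
        pullback.condition])
  have hk : k ≫ j = w := by
    apply pullback.hom_ext
    · simp [k, j, w]
    · simp [k, j, hv]
  exact ⟨k default, by rw [← Scheme.Hom.comp_apply, hk]; exact Scheme.fromSpecResidueField_apply z _⟩

set_option maxHeartbeats 1000000 in
theorem quasiCompact_piece (X : Over S) (hX : TwC.IsTwConst TwC.Topology.etale X) [Etale X.hom]
    (l : X.left) (hl : X.hom l = genericPoint S) (U : X.left.Opens) (hU : (U : Set X.left) = closure {l}) :
    QuasiCompact (U.ι ≫ X.hom) := by
  haveI : IsSeparated X.hom := TwConstVal5.isSeparated_hom X hX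
  haveI := UnibEtale.locallyQuasiFinite_of_formallyUnramified X.hom
  have hcl : IsClosed (U : Set X.left) := hU ▸ isClosed_closure
  constructor
  intro K hKo hK
  suffices h : IsCompact ((U : Set X.left) ∩ X.hom ⁻¹' K) by
    rw [U.ι.isOpenEmbedding.isInducing.isCompact_iff]
    convert h using 1
    ext z
    constructor
    · rintro ⟨z', hz', rfl⟩
      exact ⟨z'.2, hz'⟩
    · exact fun hz => ⟨⟨z, hz.1⟩, hz.2, rfl⟩
  have key : ∀ s ∈ K, ∃ W : Set S, IsOpen W ∧ s ∈ W ∧ W ⊆ K ∧
      IsCompact ((U : Set X.left) ∩ X.hom ⁻¹' W) := by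
    intro s hs
    obtain ⟨S', φ, hφ, ⟨s', hs'⟩, I, ⟨e⟩⟩ := hX s
    haveI := hφ
    obtain ⟨O, hO, hsO, hOK⟩ := exists_isAffineOpen_mem_and_subset (x := s) (U := (⟨K, hKo⟩ : S.Opens)) hs
    obtain ⟨V, hV, hsV, hVO⟩ := exists_isAffineOpen_mem_and_subset (x := s') (U := φ ⁻¹ᵁ O)
      (by show φ s' ∈ O; rw [hs']; exact hsO)
    have hηO : X.hom l ∈ O := hl ▸ (genericPoint_specializes s).mem_open O.2 hsO
    have hF := finite_over_point X.hom l hO hηO φ hV hVO
    refine ⟨φ '' V, φ.isOpenMap _ V.2, ⟨s', hsV, hs'⟩, ?_, ?_⟩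
    · rintro _ ⟨v, hv, rfl⟩
      exact hOK (hVO hv)
    let p := pullback.fst X.hom φ
    let q := pullback.snd X.hom φ
    haveI : Etale q := MorphismProperty.pullback_snd (P := @Etale) _ _ inferInstance
    haveI : IsSeparated q := MorphismProperty.pullback_snd (P := @IsSeparated) _ _ inferInstance
    haveI : Etale (q ≫ φ) := inferInstance
    let T : Set ↥(pullback X.hom φ) := p ⁻¹' U ∩ q ⁻¹' V
    have himg : (U : Set X.left) ∩ X.hom ⁻¹' (φ '' V) = p '' T := by
      ext z
      constructor
      · rintro ⟨hz, v, hv, hvz⟩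
        obtain ⟨w, hw1, hw2⟩ := Scheme.Pullback.exists_preimage_pullback (f := X.hom) (g := φ) z v hvz.symm
        refine ⟨w, ⟨?_, ?_⟩, hw1⟩
        · show p w ∈ U
          rw [show p w = z from hw1]
          exact hz
        · show q w ∈ V
          rw [show q w = v from hw2]
          exact hv
      · rintro ⟨w, ⟨hw1, hw2⟩, rfl⟩
        refine ⟨hw1, q w, hw2, ?_⟩
        rw [← Scheme.Hom.comp_apply, ← Scheme.Hom.comp_apply]
        exact congrArg (fun (m : pullback X.hom φ ⟶ S) => m w) pullback.condition.symm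
    rw [himg]
    refine IsCompact.image ?_ p.continuous
    have hsec : ∀ z : ↥(pullback X.hom φ), ∃ σ : S' ⟶ pullback X.hom φ, σ ≫ q = 𝟙 S' ∧ z ∈ Set.range σ := by
      intro z
      let w := (pullback X.hom φ).fromSpecResidueField z
      obtain ⟨m, hm⟩ := TwConstEtLib.exists_sect X e (w ≫ q) (w ≫ p) (by
        simp only [p, q, Category.assoc, pullback.condition])
      let σ : S' ⟶ pullback X.hom φ := pullback.lift (TwConstEtLib.sect X e m) (𝟙 S')
        (by rw [TwConstEtLib.sect_hom, Category.id_comp])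
      have hσq : σ ≫ q = 𝟙 S' := pullback.lift_snd _ _ _
      have hσp : σ ≫ p = TwConstEtLib.sect X e m := pullback.lift_fst _ _ _
      refine ⟨σ, hσq, q z, ?_⟩
      have hw : (w ≫ q) ≫ σ = w := by
        apply pullback.hom_ext
        · rw [Category.assoc, show σ ≫ pullback.fst X.hom φ = _ from hσp]
          exact hm.symm
        · rw [Category.assoc, show σ ≫ pullback.snd X.hom φ = _ from hσq, Category.comp_id]
      have := congrArg (fun (m : _ ⟶ pullback X.hom φ) => m default) hw
      simpa [w, Scheme.fromSpecResidueField_apply] using this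
    choose σ hσq hσz using hsec
    let F := {z : ↥(pullback X.hom φ) | p z = l ∧ q z ∈ V}
    have hcov : T = ⋃ ξ ∈ F, σ ξ '' ((V : Set S') ∩ (σ ξ ≫ p) ⁻¹' U) := by
      ext z
      constructor
      · rintro ⟨hz1, hz2⟩
        obtain ⟨ξ, hξ, hξz⟩ := exists_generic_over (q ≫ φ) z
        have hpU : p ξ ∈ U := (hξz.map p.continuous).mem_open U.2 hz1
        have hqV : q ξ ∈ V := (hξz.map q.continuous).mem_open V.2 hz2
        have hfp : X.hom (p ξ) = genericPoint S := by
          rw [← Scheme.Hom.comp_apply, pullback.condition]; exact hξ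
        have hpl : p ξ = l := (eq_of_specializes X.hom
          (specializes_iff_mem_closure.2 (hU ▸ hpU)) (hl.trans hfp.symm)).symm
        haveI : IsClosedImmersion (σ ξ ≫ q) := by rw [hσq]; infer_instance
        haveI : IsClosedImmersion (σ ξ) := IsClosedImmersion.of_comp (σ ξ) q
        obtain ⟨v, rfl⟩ := hξz.mem_closed (σ ξ).isClosedEmbedding.isClosed_range (hσz ξ)
        have hv : q (σ ξ v) = v := by rw [← Scheme.Hom.comp_apply, hσq]; rfl
        refine Set.mem_biUnion (x := ξ) ⟨hpl, hqV⟩ ⟨v, ⟨?_, ?_⟩, rfl⟩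
        · exact hv ▸ hz2
        · show (σ ξ ≫ p) v ∈ U
          rw [Scheme.Hom.comp_apply]
          exact hz1
      · intro hz
        obtain ⟨ξ, -, v, ⟨hv, hvU⟩, rfl⟩ := Set.mem_iUnion₂.1 hz
        refine ⟨?_, ?_⟩
        · show p (σ ξ v) ∈ U
          rw [← Scheme.Hom.comp_apply]
          exact hvU
        · show q (σ ξ v) ∈ V
          rw [← Scheme.Hom.comp_apply, hσq]
          exact hv
    rw [hcov]
    exact hF.isCompact_biUnion fun ξ _ =>
      (hV.isCompact.inter_right (hcl.preimage (σ ξ ≫ p).continuous)).image (σ ξ).continuous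
  choose! W hWo hsW hWK hWc using key
  obtain ⟨t, htK, htfin, htcov⟩ := hK.elim_finite_subcover_image (fun s hs => hWo s hs)
    (fun s hs => Set.mem_biUnion hs (hsW s hs))
  have : (U : Set X.left) ∩ X.hom ⁻¹' K = ⋃ s ∈ t, (U : Set X.left) ∩ X.hom ⁻¹' (W s) := by
    ext z
    constructor
    · rintro ⟨hz, hzK⟩
      obtain ⟨s, hs, hzs⟩ := Set.mem_iUnion₂.1 (htcov hzK)
      exact Set.mem_biUnion hs ⟨hz, hzs⟩
    · intro hz
      obtain ⟨s, hs, hzU, hzs⟩ := Set.mem_iUnion₂.1 hz
      exact ⟨hzU, hWK s (htK hs) hzs⟩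
  rw [this]
  exact htfin.isCompact_biUnion fun s hs => hWc s (htK hs)

theorem piece_props (X : Over S) (hX : TwC.IsTwConst TwC.Topology.etale X)
    (l : X.left) (hl : X.hom l = genericPoint S) (U : X.left.Opens) (hU : (U : Set X.left) = closure {l}) :
    IsFinite (U.ι ≫ X.hom) ∧ Etale (U.ι ≫ X.hom) ∧ Surjective (U.ι ≫ X.hom) := by
  haveI : Etale X.hom := TwConstEtLib.etale_hom X hX
  haveI : IsSeparated X.hom := TwConstVal5.isSeparated_hom X hX
  haveI := quasiCompact_piece X hX l hl U hU
  have hval := (ValuativeCriterion.iff.1 (TwConstVal5.valuativeCriterion X hX)).1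
  have hex : ValuativeCriterion.Existence (U.ι ≫ X.hom) := by
    rintro ⟨R, K, i₁, i₂, ⟨w⟩⟩
    obtain ⟨⟨⟨L, hL₁, hL₂⟩⟩⟩ := hval ⟨R, K, i₁ ≫ U.ι, i₂, ⟨by rw [Category.assoc]; exact w⟩⟩
    have hrange : Set.range L ⊆ Set.range U.ι := by
      rw [Scheme.Opens.range_ι]
      rintro _ ⟨z, rfl⟩
      let g := Spec.map (CommRingCat.ofHom (algebraMap R K)) (IsLocalRing.closedPoint K)
      have hsp : g ⤳ z := by
        refine (PrimeSpectrum.le_iff_specializes g z).1 ?_
        intro a ha
        have h0 : algebraMap R K a ∈ IsLocalRing.maximalIdeal K := ha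
        rw [IsLocalRing.maximalIdeal_eq_bot, Ideal.mem_bot, map_eq_zero_iff _ (IsFractionRing.injective R K)] at h0
        rw [h0]
        exact zero_mem _
      refine (hsp.map L.continuous).mem_closed (hU ▸ isClosed_closure) ?_
      rw [← Scheme.Hom.comp_apply, hL₁, Scheme.Hom.comp_apply]
      exact (i₁ _).2
    refine ⟨⟨⟨IsOpenImmersion.lift U.ι L hrange, ?_, ?_⟩⟩⟩
    · rw [← cancel_mono U.ι, Category.assoc, IsOpenImmersion.lift_fac]
      exact hL₁
    · rw [← Category.assoc, IsOpenImmersion.lift_fac]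
      exact hL₂
  haveI := UniversallyClosed.of_valuativeCriterion _ hex
  haveI : IsProper (U.ι ≫ X.hom) := { }
  haveI := UnibEtale.locallyQuasiFinite_of_formallyUnramified (U.ι ≫ X.hom)
  refine ⟨IsFinite.of_isProper_of_locallyQuasiFinite _, inferInstance, ⟨fun s => ?_⟩⟩
  refine (genericPoint_specializes s).mem_closed (U.ι ≫ X.hom).isClosedMap.isClosed_range ?_
  refine ⟨⟨l, hU.ge (subset_closure rfl)⟩, ?_⟩
  exact hl

theorem section_ext [Etale f] [IsSeparated f] (σ₁ σ₂ : S ⟶ Y) (h₁ : σ₁ ≫ f = 𝟙 S) (h₂ : σ₂ ≫ f = 𝟙 S)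
    (h : S.fromSpecResidueField (genericPoint S) ≫ σ₁ = S.fromSpecResidueField (genericPoint S) ≫ σ₂) :
    σ₁ = σ₂ := by
  let m : S ⟶ pullback f f := pullback.lift σ₁ σ₂ (h₁.trans h₂.symm)
  let e := pullback.snd (pullback.diagonal f) m
  haveI : IsOpenImmersion e := inferInstance
  haveI : IsClosedImmersion e := inferInstance
  let ι := S.fromSpecResidueField (genericPoint S)
  have hι : (ι ≫ σ₁) ≫ pullback.diagonal f = ι ≫ m := by
    apply pullback.hom_ext
    · simp [m, ι]
    · simp only [m, ι, Category.assoc, pullback.diagonal_snd, pullback.lift_snd, Category.comp_id]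
      exact h
  have hc : genericPoint S ∈ Set.range e := by
    refine ⟨pullback.lift (ι ≫ σ₁) ι hι default, ?_⟩
    rw [← Scheme.Hom.comp_apply, pullback.lift_snd]
    exact Scheme.fromSpecResidueField_apply _ _
  haveI : Surjective e := ⟨fun z =>
    (genericPoint_specializes z).mem_closed e.isClosedEmbedding.isClosed_range hc⟩
  haveI : IsIso e := (isIso_iff_isOpenImmersion_and_surjective _).2 ⟨inferInstance, inferInstance⟩
  have hfst : pullback.fst (pullback.diagonal f) m = e ≫ σ₁ := by
    simpa [m, e] using congrArg (· ≫ pullback.fst f f) (pullback.condition (f := pullback.diagonal f) (g := m))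
  have hsnd : pullback.fst (pullback.diagonal f) m = e ≫ σ₂ := by
    simpa [m, e] using congrArg (· ≫ pullback.snd f f) (pullback.condition (f := pullback.diagonal f) (g := m))
  exact (cancel_epi e).1 (hfst.symm.trans hsnd)

omit [IrreducibleSpace S] in
/-- Morphisms from a field to a point with trivial residue extension are determined downstairs. -/
theorem eq_of_trivial_residue (l : Y)
    (τ : Spec (S.residueField (f l)) ⟶ Y) (hτl : τ default = l) (hτ : τ ≫ f = S.fromSpecResidueField (f l))
    {K : Type u} [Field K] (g₁ g₂ : Spec (CommRingCat.of K) ⟶ Y)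
    (hg₁ : ∀ z, g₁ z = l) (hg₂ : ∀ z, g₂ z = l)
    (h : g₁ ≫ f = g₂ ≫ f) : g₁ = g₂ := by
  have hfac : ∀ {L : Type u} [Field L] (g : Spec (CommRingCat.of L) ⟶ Y), (∀ z, g z = l) →
      ∃ ψ : Y.residueField l ⟶ CommRingCat.of L, g = Spec.map ψ ≫ Y.fromSpecResidueField l := by
    intro L _ g hg
    have hgl := hg (IsLocalRing.closedPoint L)
    refine ⟨(Y.residueFieldCongr hgl).inv ≫ Scheme.descResidueField (Scheme.stalkClosedPointTo g), ?_⟩
    rw [Spec.map_comp, Category.assoc, Scheme.residueFieldCongr_inv,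
      Scheme.residueFieldCongr_fromSpecResidueField]
    exact (Scheme.descResidueField_stalkClosedPointTo_fromSpecResidueField L Y g).symm
  obtain ⟨ψ, hψ⟩ := hfac (L := S.residueField (f l)) τ (fun z => by
    have hd : z = default := Unique.eq_default (α := Spec (S.residueField (f l))) z
    rw [hd]; exact hτl)
  have hr : f.residueFieldMap l ≫ ψ = 𝟙 _ := by
    apply Spec.map_injective
    rw [← cancel_mono (S.fromSpecResidueField (f l)), Spec.map_comp, Category.assoc,
      Scheme.Hom.SpecMap_residueFieldMap_fromSpecResidueField, ← Category.assoc, ← hψ, hτ,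
      Spec.map_id]
    exact (Category.id_comp _).symm
  have hiso : IsIso (f.residueFieldMap l) := by
    refine ⟨ψ, hr, ?_⟩
    ext a
    apply (ψ.hom).injective
    exact congr(($hr).hom (ψ a))
  obtain ⟨ψ₁, hψ₁⟩ := hfac g₁ hg₁
  obtain ⟨ψ₂, hψ₂⟩ := hfac g₂ hg₂
  have : f.residueFieldMap l ≫ ψ₁ = f.residueFieldMap l ≫ ψ₂ := by
    apply Spec.map_injective
    rw [← cancel_mono (S.fromSpecResidueField (f l)), Spec.map_comp, Spec.map_comp, Category.assoc,
      Category.assoc, Scheme.Hom.SpecMap_residueFieldMap_fromSpecResidueField, ← Category.assoc,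
      ← Category.assoc, ← hψ₁, ← hψ₂, h]
  rw [hψ₁, hψ₂, (cancel_epi (f.residueFieldMap l)).1 this]

theorem exists_section (X : Over S) (hX : TwC.IsTwConst TwC.Topology.etale X)
    (hS : ∀ s : S, CAlg2.IsGeomUnibranch (S.presheaf.stalk s))
    (η : S) (hη : η = genericPoint S) (τ : Spec (S.residueField η) ⟶ X.left)
    (hτ : τ ≫ X.hom = S.fromSpecResidueField η) :
    ∃ σ : S ⟶ X.left, σ ≫ X.hom = 𝟙 S ∧ S.fromSpecResidueField η ≫ σ = τ := by
  haveI : Etale X.hom := TwConstEtLib.etale_hom X hX
  haveI : IsSeparated X.hom := TwConstVal5.isSeparated_hom X hX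
  obtain ⟨l, hτl⟩ : ∃ l, τ default = l := ⟨_, rfl⟩
  have hl : X.hom l = η := by
    rw [← hτl, ← Scheme.Hom.comp_apply, hτ, Scheme.fromSpecResidueField_apply]
  subst hl
  let U : X.left.Opens := ⟨closure {l}, isOpen_closure X.hom hS l hη⟩
  obtain ⟨hfin, het, hsurj⟩ := piece_props X hX l hη U rfl
  let g := U.ι ≫ X.hom
  haveI : IsFinite g := hfin
  haveI : Etale g := het
  haveI : Surjective g := hsurj
  haveI : Surjective (pullback.diagonal g) := ⟨fun z => by
    haveI : Etale (pullback.fst g g ≫ g) := inferInstance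
    obtain ⟨w, hw, hwz⟩ := exists_generic_over (pullback.fst g g ≫ g) z
    refine hwz.mem_closed (pullback.diagonal g).isClosedEmbedding.isClosed_range ?_
    have hl' : ∀ u : (U : Scheme.{u}), g u = genericPoint S → U.ι u = l := fun u hu => by
      haveI := UnibEtale.locallyQuasiFinite_of_formallyUnramified X.hom
      refine (eq_of_specializes X.hom (specializes_iff_mem_closure.2 u.2) ?_).symm
      rw [hη]
      exact hu.symm
    let r := (pullback g g).fromSpecResidueField w
    have h1 : r ≫ pullback.fst g g = r ≫ pullback.snd g g := by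
      rw [← cancel_mono U.ι]
      refine eq_of_trivial_residue X.hom l τ hτl hτ (K := (pullback g g).residueField w) _ _ ?_ ?_ ?_
      · intro s
        rw [Category.assoc, Scheme.Hom.comp_apply]
        erw [Scheme.fromSpecResidueField_apply w s]
        rw [Scheme.Hom.comp_apply]
        exact hl' _ hw
      · intro s
        rw [Category.assoc, Scheme.Hom.comp_apply]
        erw [Scheme.fromSpecResidueField_apply w s]
        rw [Scheme.Hom.comp_apply]
        refine hl' _ ?_
        rw [← Scheme.Hom.comp_apply, ← pullback.condition]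
        exact hw
      · simp only [Category.assoc]
        exact congrArg (r ≫ ·) pullback.condition
    refine ⟨(r ≫ pullback.fst g g) default, ?_⟩
    have h2 : (r ≫ pullback.fst g g) ≫ pullback.diagonal g = r := by
      apply pullback.hom_ext
      · simp
      · simp [h1]
    rw [← Scheme.Hom.comp_apply, h2]
    exact Scheme.fromSpecResidueField_apply _ _⟩
  haveI : IsIso (pullback.diagonal g) :=
    (isIso_iff_isOpenImmersion_and_surjective _).2 ⟨inferInstance, inferInstance⟩
  haveI : Mono g := (pullback.isIso_diagonal_iff g).1 inferInstance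
  haveI : IsOpenImmersion g := IsOpenImmersion.of_flat_of_mono g
  haveI : IsIso g := (isIso_iff_isOpenImmersion_and_surjective _).2 ⟨inferInstance, inferInstance⟩
  refine ⟨inv g ≫ U.ι, by rw [Category.assoc]; exact IsIso.inv_hom_id g, ?_⟩
  let τ' := IsOpenImmersion.lift U.ι τ (by
    rw [Scheme.Opens.range_ι]
    rintro _ ⟨z, rfl⟩
    rw [Subsingleton.elim z default, hτl]
    exact subset_closure rfl)
  have h3 : τ' ≫ g = S.fromSpecResidueField (X.hom l) := by
    rw [← hτ, ← Category.assoc, IsOpenImmersion.lift_fac]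
  rw [← h3, Category.assoc, IsIso.hom_inv_id_assoc, IsOpenImmersion.lift_fac]

end Groth.Agent.Quiet5.TwGeneric
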