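import Groth.Agent.S5035
import Groth.Agent.S0501
import Mathlib.AlgebraicGeometry.ValuativeCriterion
import Mathlib.AlgebraicGeometry.Morphisms.Etale
import Mathlib.AlgebraicGeometry.Morphisms.Finite
import Mathlib.AlgebraicGeometry.Morphisms.FlatMono
import Mathlib.AlgebraicGeometry.Morphisms.IsIso
import Mathlib.RingTheory.Finiteness.ModuleFinitePresentation

/-!
# Separated étale schemes over a henselian local ring at the points of the closed fibre
-/

set_option autoImplicit false
set_option linter.style.haveILetI false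

universe u

open CategoryTheory CategoryTheory.Limits AlgebraicGeometry TopologicalSpace

namespace Groth.Agent.Quiet5.TwHensel

set_option backward.isDefEq.respectTransparency false
set_option backward.isDefEq.respectTransparency.types false

variable {R : Type u} [CommRing R] [HenselianLocalRing R] {X : Scheme.{u}}
  (f : X ⟶ Spec (CommRingCat.of R)) [Etale f] [IsSeparated f]

theorem stalk_piece (x : X) (hx : f x = IsLocalRing.closedPoint R) :
    IsOpenImmersion (X.fromSpecStalk x) ∧ IsClosedImmersion (X.fromSpecStalk x) ∧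
      IsFinite (X.fromSpecStalk x ≫ f) ∧ Etale (X.fromSpecStalk x ≫ f) ∧
      Surjective (X.fromSpecStalk x ≫ f) := by
  obtain ⟨W, hW, hxW, -⟩ := exists_isAffineOpen_mem_and_subset (x := x) (U := (⊤ : X.Opens)) trivial
  obtain ⟨α₀, hα₀⟩ : ∃ α₀, Spec.map α₀ = hW.fromSpec ≫ f := ⟨_, Spec.map_preimage _⟩
  have het : α₀.hom.Etale := by
    rw [← HasRingHomProperty.Spec_iff (P := @Etale), hα₀]
    infer_instance
  letI : Algebra R Γ(X, W) := α₀.hom.toAlgebra
  haveI : Algebra.Etale R Γ(X, W) := het
  let q := (hW.primeIdealOf ⟨x, hxW⟩).asIdeal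
  have hq : q.comap (algebraMap R Γ(X, W)) = IsLocalRing.maximalIdeal R := by
    have h : Spec.map α₀ (hW.primeIdealOf ⟨x, hxW⟩) = IsLocalRing.closedPoint R := by
      rw [hα₀, Scheme.Hom.comp_apply, hW.fromSpec_primeIdealOf]
      exact hx
    exact congrArg PrimeSpectrum.asIdeal h
  haveI : q.LiesOver (IsLocalRing.maximalIdeal R) := ⟨hq.symm⟩
  haveI : Module.Finite R (Localization.AtPrime q) :=
    (Groth.Agent.S5035.result R).1 inferInstance Γ(X, W) q inferInstance inferInstance
  letI : Algebra Γ(X, W) (X.presheaf.stalk x) :=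
    TopCat.Presheaf.algebra_section_stalk X.presheaf ⟨x, hxW⟩
  haveI : IsLocalization.AtPrime (X.presheaf.stalk x) q := hW.isLocalization_stalk ⟨x, hxW⟩
  letI : Algebra R (X.presheaf.stalk x) :=
    ((algebraMap Γ(X, W) (X.presheaf.stalk x)).comp (algebraMap R Γ(X, W))).toAlgebra
  haveI : IsScalarTower R Γ(X, W) (X.presheaf.stalk x) := IsScalarTower.of_algebraMap_eq' rfl
  haveI : Module.Finite R (X.presheaf.stalk x) :=
    Module.Finite.equiv ((IsLocalization.algEquiv q.primeCompl (Localization.AtPrime q)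
      (X.presheaf.stalk x)).restrictScalars R).toLinearEquiv
  haveI : Algebra.FormallyEtale Γ(X, W) (X.presheaf.stalk x) :=
    Algebra.FormallyEtale.of_isLocalization q.primeCompl
  haveI : Algebra.FormallyEtale R (X.presheaf.stalk x) :=
    Algebra.FormallyEtale.comp R Γ(X, W) (X.presheaf.stalk x)
  haveI : Module.Flat Γ(X, W) (X.presheaf.stalk x) := IsLocalization.flat _ q.primeCompl
  haveI : Module.Flat R (X.presheaf.stalk x) := Module.Flat.trans R Γ(X, W) _
  haveI : Module.Free R (X.presheaf.stalk x) := Module.free_of_flat_of_isLocalRing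
  haveI : Module.FinitePresentation R (X.presheaf.stalk x) :=
    Module.finitePresentation_of_projective _ _
  haveI : Algebra.FinitePresentation R (X.presheaf.stalk x) := inferInstance
  haveI : Algebra.Etale R (X.presheaf.stalk x) := ⟨inferInstance, inferInstance⟩
  haveI : Module.FaithfullyFlat R (X.presheaf.stalk x) := inferInstance
  have hcomp : X.fromSpecStalk x ≫ f =
      Spec.map (CommRingCat.ofHom (algebraMap R (X.presheaf.stalk x))) := by
    rw [← hW.fromSpecStalk_eq_fromSpecStalk hxW, IsAffineOpen.fromSpecStalk, Category.assoc, ← hα₀,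
      ← Spec.map_comp]
    rfl
  have h1 : IsFinite (X.fromSpecStalk x ≫ f) := by
    rw [hcomp, IsFinite.SpecMap_iff]
    exact RingHom.finite_algebraMap.2 inferInstance
  have h2 : Etale (X.fromSpecStalk x ≫ f) := by
    rw [hcomp, HasRingHomProperty.Spec_iff (P := @Etale)]
    exact RingHom.etale_algebraMap.2 inferInstance
  have h3 : Surjective (X.fromSpecStalk x ≫ f) := by
    rw [hcomp]
    exact ⟨PrimeSpectrum.comap_surjective_of_faithfullyFlat⟩
  haveI := h1
  haveI := h2
  haveI : IsFinite (X.fromSpecStalk x) := IsFinite.of_comp (X.fromSpecStalk x) f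
  haveI : Etale (X.fromSpecStalk x) := Etale.of_comp (X.fromSpecStalk x) f
  exact ⟨IsOpenImmersion.of_flat_of_mono _,
    (IsClosedImmersion.iff_isFinite_and_mono _).2 ⟨inferInstance, inferInstance⟩, h1, h2, h3⟩

theorem existsUnique_piece (hval : ValuativeCriterion.Existence f) (y : X) :
    ∃! x : X, f x = IsLocalRing.closedPoint R ∧ y ∈ Set.range (X.fromSpecStalk x) := by
  obtain ⟨x, hyx, hx⟩ := ValuativeCriterion.Existence.specializingMap f hval (IsLocalRing.specializes_closedPoint (f y))
  refine ⟨x, ⟨hx, (Set.ext_iff.1 Scheme.range_fromSpecStalk y).2 hyx⟩, ?_⟩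
  rintro x' ⟨hx', hyx'⟩
  obtain ⟨-, hcl, hfin, -, -⟩ := stalk_piece f x' hx'
  haveI := hcl
  haveI := hfin
  obtain ⟨p, hp⟩ : x ∈ Set.range (X.fromSpecStalk x') :=
    hyx.mem_closed (X.fromSpecStalk x').isClosedEmbedding.isClosed_range hyx'
  have hmax : IsClosed ({p} : Set (Spec (X.presheaf.stalk x'))) := by
    have hfin' := (IsFinite.SpecMap_iff (f := Spec.preimage (X.fromSpecStalk x' ≫ f))).1
      (by rw [Spec.map_preimage]; exact hfin)
    refine (PrimeSpectrum.isClosed_singleton_iff_isMaximal p).2 ?_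
    letI := (Spec.preimage (X.fromSpecStalk x' ≫ f)).hom.toAlgebra
    haveI : Module.Finite R (X.presheaf.stalk x') := hfin'
    refine Ideal.isMaximal_of_isIntegral_of_isMaximal_comap (R := R) p.asIdeal ?_
    have h : Spec.map (Spec.preimage (X.fromSpecStalk x' ≫ f)) p = IsLocalRing.closedPoint R := by
      rw [Spec.map_preimage, Scheme.Hom.comp_apply, hp, hx]
    have h' := congrArg PrimeSpectrum.asIdeal h
    show (p.asIdeal.comap (algebraMap R _)).IsMaximal
    have h'' : p.asIdeal.comap (algebraMap R (X.presheaf.stalk x')) = IsLocalRing.maximalIdeal R := h'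
    rw [h'']
    exact IsLocalRing.maximalIdeal.isMaximal R
  have hpc : p = IsLocalRing.closedPoint (X.presheaf.stalk x') :=
    ((IsLocalRing.specializes_closedPoint p).mem_closed hmax rfl).symm
  rw [← hp, hpc, Scheme.fromSpecStalk_closedPoint]

omit [IsSeparated f] in
theorem section_ext (σ₁ σ₂ : Spec (CommRingCat.of R) ⟶ X) (h₁ : σ₁ ≫ f = 𝟙 _) (h₂ : σ₂ ≫ f = 𝟙 _)
    (h : Spec.map (CommRingCat.ofHom (IsLocalRing.residue R)) ≫ σ₁ =
      Spec.map (CommRingCat.ofHom (IsLocalRing.residue R)) ≫ σ₂) : σ₁ = σ₂ := by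
  let l : Spec (CommRingCat.of R) ⟶ pullback f f := pullback.lift σ₁ σ₂ (h₁.trans h₂.symm)
  let e := pullback.snd (pullback.diagonal f) l
  haveI : IsOpenImmersion e := inferInstance
  let ι : Spec (CommRingCat.of (IsLocalRing.ResidueField R)) ⟶ Spec (CommRingCat.of R) :=
    Spec.map (CommRingCat.ofHom (IsLocalRing.residue R))
  have hι : (ι ≫ σ₁) ≫ pullback.diagonal f = ι ≫ l := by
    apply pullback.hom_ext
    · simp [l, ι]
    · simp only [l, ι, Category.assoc, pullback.diagonal_snd, pullback.lift_snd, Category.comp_id]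
      exact h
  have hc : IsLocalRing.closedPoint R ∈ Set.range e := by
    refine ⟨pullback.lift (ι ≫ σ₁) ι hι (IsLocalRing.closedPoint _), ?_⟩
    rw [← Scheme.Hom.comp_apply, pullback.lift_snd]
    exact IsLocalRing.comap_closedPoint (IsLocalRing.residue R)
  haveI : Surjective e := ⟨fun z =>
    (IsLocalRing.specializes_closedPoint z).mem_open e.isOpenEmbedding.isOpen_range hc⟩
  haveI : IsIso e := (isIso_iff_isOpenImmersion_and_surjective _).2 ⟨inferInstance, inferInstance⟩
  have hfst : pullback.fst (pullback.diagonal f) l = e ≫ σ₁ := by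
    simpa [l, e] using congrArg (· ≫ pullback.fst f f) (pullback.condition (f := pullback.diagonal f) (g := l))
  have hsnd : pullback.fst (pullback.diagonal f) l = e ≫ σ₂ := by
    simpa [l, e] using congrArg (· ≫ pullback.snd f f) (pullback.condition (f := pullback.diagonal f) (g := l))
  exact (cancel_epi e).1 (hfst.symm.trans hsnd)

theorem exists_section (τ : Spec (CommRingCat.of (IsLocalRing.ResidueField R)) ⟶ X)
    (hτ : τ ≫ f = Spec.map (CommRingCat.ofHom (IsLocalRing.residue R))) :
    ∃ σ : Spec (CommRingCat.of R) ⟶ X, σ ≫ f = 𝟙 _ ∧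
      Spec.map (CommRingCat.ofHom (IsLocalRing.residue R)) ≫ σ = τ := by
  let x := τ (IsLocalRing.closedPoint _)
  have hx : f x = IsLocalRing.closedPoint R := by
    rw [← Scheme.Hom.comp_apply, hτ]
    exact IsLocalRing.comap_closedPoint (IsLocalRing.residue R)
  obtain ⟨-, -, -, het, -⟩ := stalk_piece f x hx
  obtain ⟨a, ha⟩ : ∃ a, Spec.map a = X.fromSpecStalk x ≫ f := ⟨_, Spec.map_preimage _⟩
  let ψ : X.presheaf.stalk x ⟶ CommRingCat.of (IsLocalRing.ResidueField R) := Scheme.stalkClosedPointTo τ
  have hψ : Spec.map ψ ≫ X.fromSpecStalk x = τ := Scheme.Spec_stalkClosedPointTo_fromSpecStalk τ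
  have hψa : a ≫ ψ = CommRingCat.ofHom (IsLocalRing.residue R) := by
    apply Spec.map_injective
    rw [Spec.map_comp, ha, ← Category.assoc, hψ, hτ]
  have hea : a.hom.Etale := by
    rw [← HasRingHomProperty.Spec_iff (P := @Etale), ha]
    exact het
  letI : Algebra R (X.presheaf.stalk x) := a.hom.toAlgebra
  haveI : Algebra.Etale R (X.presheaf.stalk x) := hea
  let q := RingHom.ker ψ.hom
  haveI : q.IsPrime := RingHom.ker_isPrime _
  have hu : q.primeCompl ≤ (IsUnit.submonoid (IsLocalRing.ResidueField R)).comap ψ.hom := fun y hy =>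
    isUnit_iff_ne_zero.2 hy
  let t : q.ResidueField →+* IsLocalRing.ResidueField R := Ideal.ResidueField.lift q ψ.hom le_rfl hu
  have ht : t.comp (algebraMap R q.ResidueField) = (IsLocalRing.residue R).comp (algebraMap R R) := by
    ext r
    rw [RingHom.comp_apply, IsScalarTower.algebraMap_apply R (X.presheaf.stalk x) q.ResidueField,
      Ideal.ResidueField.lift_algebraMap]
    exact congr(($hψa).hom r)
  obtain ⟨g, ⟨-, hg⟩, -⟩ := Groth.Agent.S0501.result R R (X.presheaf.stalk x) q t ht
  refine ⟨Spec.map (CommRingCat.ofHom g.toRingHom) ≫ X.fromSpecStalk x, ?_, ?_⟩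
  · rw [Category.assoc, ← ha, ← Spec.map_comp, ← Spec.map_id]
    congr 1
    ext r
    exact g.commutes r
  · rw [← Category.assoc, ← Spec.map_comp, ← hψ]
    congr 2
    ext y
    exact (hg y).trans (Ideal.ResidueField.lift_algebraMap _ _ _ _ _)

end Groth.Agent.Quiet5.TwHensel
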